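import Cfsg.Agent.Lib.PGroup.TwinPrime.Linear
import Cfsg.Agent.Lib.Perm.PrimeDegreeDihedralNormalizer

/-!
Prime degree `p = q + 2` with half Sylow normaliser: five-fold transitivity.
-/

set_option autoImplicit false
set_option linter.unusedSectionVars false
set_option linter.style.haveILetI false

namespace CfsgLib.PGroup.TwinPrime.Transitive

open MulAction Equiv

/-- The order of a solvable transitive group of prime degree. -/
theorem card_of_isSolvable {β : Type*} [Fintype β] {q : ℕ} [Fact q.Prime] (hβ : Fintype.card β = q)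
    (R : Subgroup (Equiv.Perm β)) [IsPretransitive R β] (hR : Group.IsSolvable R) :
    ∃ e, e ∣ q - 1 ∧ Nat.card R = q * e := by
  classical
  have hq : q.Prime := Fact.out
  have hβ' : Nat.card β = q := by rw [Nat.card_eq_fintype_card, hβ]
  obtain ⟨a⟩ : Nonempty β := Fintype.card_pos_iff.1 (hβ ▸ hq.pos)
  obtain ⟨s, e, hso, hea, hes⟩ := CfsgLib.Perm.PrimeDegree.exists_coord hβ' R a
  have hsc : Nat.card (Subgroup.zpowers s) = q := by rw [Nat.card_zpowers, hso]
  obtain ⟨Q, hQ⟩ := (IsPGroup.of_card (p := q) (n := 1) (hsc.trans (pow_one q).symm) :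
    IsPGroup q (Subgroup.zpowers s)).exists_le_sylow
  have hQc : Nat.card Q = q := by
    refine le_antisymm ?_ (hsc.symm.le.trans (Subgroup.card_le_of_le hQ))
    have hd : Nat.card R ∣ q.factorial := by
      rw [← hβ', ← Nat.card_perm]; exact Subgroup.card_subgroup_dvd_card R
    have h1 : (Nat.card R).factorization q ≤ 1 := by
      by_contra hlt
      have h3 : q ^ 2 ∣ q.factorial :=
        ((pow_dvd_pow q (by omega : 2 ≤ (Nat.card R).factorization q)).trans (Nat.ordProj_dvd _ _)).trans hd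
      rw [← Nat.mul_factorial_pred hq.ne_zero, pow_two] at h3
      have h4 := Nat.dvd_of_mul_dvd_mul_left hq.pos h3
      rw [hq.dvd_factorial] at h4
      have := hq.two_le
      omega
    rw [Q.card_eq_multiplicity]
    calc q ^ (Nat.card R).factorization q ≤ q ^ 1 := Nat.pow_le_pow_right hq.pos h1
      _ = q := pow_one q
  have hQs : (Q : Subgroup R) = Subgroup.zpowers s :=
    (Subgroup.eq_of_le_of_card_ge hQ (by rw [hsc]; exact hQc.le)).symm
  haveI hn := CfsgLib.Perm.PrimeDegreeDihedral.sylow_normal_of_isSolvable hβ hR Q hQc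
  have hsn : ∀ (n : ℕ) (x : β), e (s ^ n • x) = e x + n := fun n => by
    induction n with
    | zero => simp
    | succ n ih => intro x; rw [pow_succ', mul_smul, hes, ih]; push_cast; ring
  have haff : ∀ t : stabilizer R a, ∃ c : ZMod q, ∀ x, e ((t : R) • x) = c * e x := by
    intro t
    have hmem : (t : R) * s * (t : R)⁻¹ ∈ Subgroup.zpowers s :=
      hQs ▸ hn.conj_mem s (hQs ▸ Subgroup.mem_zpowers s) t
    obtain ⟨c, hc⟩ := mem_powers_iff_mem_zpowers.2 hmem
    replace hc : s ^ c = (t : R) * s * (t : R)⁻¹ := hc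
    refine ⟨c, fun x => ?_⟩
    have hx : x = s ^ (e x).val • a := e.injective (by rw [hsn, hea, zero_add, ZMod.natCast_zmod_val])
    have ht : (t : R) • a = a := t.2
    have key : (t : R) • x = s ^ (c * (e x).val) • a := by
      rw [pow_mul, hc, conj_pow]
      conv_rhs => rw [mul_smul, mul_smul, show (t : R)⁻¹ • a = a by rw [inv_smul_eq_iff, ht], ← hx]
    rw [key, hsn, hea, zero_add, Nat.cast_mul, ZMod.natCast_zmod_val]
  choose A hA using haff
  have hA' : ∀ (t : stabilizer R a) (c : ZMod q), (∀ x, e ((t : R) • x) = c * e x) → A t = c := by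
    intro t c h
    have h1 := (hA t (e.symm 1)).symm.trans (h (e.symm 1))
    simpa using h1
  let f : stabilizer R a →* ZMod q :=
    { toFun := A
      map_one' := hA' 1 1 fun x => by simp
      map_mul' := fun t t' => hA' _ _ fun x => by
        rw [Subgroup.coe_mul, mul_smul, hA, hA]; ring }
  have hinj : Function.Injective f.toHomUnits := by
    intro t t' h
    have h' : A t = A t' := congrArg Units.val h
    refine Subtype.ext (Subtype.ext (Equiv.ext fun x => e.injective ?_))
    show e ((t : R) • x) = e ((t' : R) • x)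
    rw [hA, hA, h']
  refine ⟨Nat.card (stabilizer R a), ?_, ?_⟩
  · have h := Subgroup.card_dvd_of_injective f.toHomUnits hinj
    rwa [Nat.card_eq_fintype_card (α := (ZMod q)ˣ), ZMod.card_units] at h
  · rw [CfsgLib.Perm.Basic.card_eq_mul_stabilizer (G := R) a, hβ']

theorem arith {p e : ℕ} (hp : p.Prime) (hq : (p - 2).Prime) (hp7 : 7 < p) (he : e ∣ p - 3)
    (h : p ∣ 4 * e + 1) : False := by
  obtain ⟨j, hj⟩ := he
  obtain ⟨k, hk⟩ := h
  have hj0 : 0 < j := Nat.pos_of_ne_zero fun e0 => by rw [e0, mul_zero] at hj; omega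
  have hk0 : 0 < k := Nat.pos_of_ne_zero fun e0 => by rw [e0, mul_zero] at hk; omega
  have he : e ≤ p - 3 := by rw [hj]; exact Nat.le_mul_of_pos_right e hj0
  have hk4 : k < 4 := by
    by_contra hk4
    have : p * 4 ≤ p * k := Nat.mul_le_mul_left p (by omega)
    omega
  have hj4 : j < 4 := by
    by_contra hj4
    have : e * 4 ≤ e * j := Nat.mul_le_mul_left e (by omega)
    have : p * 1 ≤ p * k := Nat.mul_le_mul_left p hk0
    omega
  have hp9 : p ≠ 9 := fun e0 => by rw [e0] at hp; norm_num at hp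
  have hp11 : p ≠ 11 := fun e0 => by rw [e0] at hq; norm_num at hq
  interval_cases j <;> interval_cases k <;> omega

variable {G Ω : Type*} [Group G] [Finite G] [MulAction G Ω] [FaithfulSMul G Ω] [Finite Ω]
  {p : ℕ} [hp : Fact p.Prime]

theorem two_mul_card (P : Sylow p G) (hN : 2 * Nat.card ↥(Subgroup.normalizer ((P : Subgroup G) : Set G)) = p * (p - 1)) :
    2 * Nat.card G = Nat.card (Sylow p G) * (p * (p - 1)) := by
  have h : Nat.card (Sylow p G) = (Subgroup.normalizer ((P : Subgroup G) : Set G)).index :=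
    P.card_eq_index_normalizer
  rw [← hN, h, ← (Subgroup.normalizer ((P : Subgroup G) : Set G)).card_mul_index]
  ring

theorem no_swap [DecidableEq Ω] (hΩ : Nat.card Ω = p) [IsPretransitive G Ω] (hp5 : 5 < p)
    (h2 : IsMultiplyPretransitive G Ω 2) (P : Sylow p G)
    (hN : 2 * Nat.card ↥(Subgroup.normalizer ((P : Subgroup G) : Set G)) = p * (p - 1))
    {a b : Ω} (hab : a ≠ b) (g : G) : ¬ ∀ x, g • x = Equiv.swap a b x := by
  intro hg
  let φ := MulAction.toPermHom G Ω
  have hall : ∀ σ : Equiv.Perm Ω, σ.IsSwap → σ ∈ φ.range := by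
    rintro σ ⟨u, v, huv, rfl⟩
    obtain ⟨k, h1, h2'⟩ := (is_two_pretransitive_iff.mp h2) hab huv
    refine ⟨k * g * k⁻¹, Equiv.ext fun x => ?_⟩
    show (k * g * k⁻¹) • x = Equiv.swap u v x
    rw [mul_smul, mul_smul, hg, ← h1, ← h2']
    simp only [Equiv.swap_apply_def, inv_smul_eq_iff]
    split_ifs <;> simp
  have hsurj : φ.range = ⊤ := by
    rw [eq_top_iff, ← Equiv.Perm.closure_isSwap, Subgroup.closure_le]
    exact hall
  have hc : Nat.card G = p.factorial := by
    rw [← hΩ, ← Nat.card_perm]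
    have e : Nat.card G = Nat.card φ.range :=
      Nat.card_congr (MonoidHom.ofInjective (f := φ) MulAction.toPerm_injective).toEquiv
    rw [e, hsurj]
    exact Nat.card_congr Subgroup.topEquiv.toEquiv
  have h := two_mul_card P hN
  rw [hc, ← Nat.mul_factorial_pred hp.out.ne_zero,
    ← Nat.mul_factorial_pred (show p - 1 ≠ 0 by omega)] at h
  have hn : Nat.card (Sylow p G) = 2 * (p - 1 - 1).factorial := by
    refine Nat.eq_of_mul_eq_mul_right (show 0 < p * (p - 1) from Nat.mul_pos hp.out.pos (by omega)) ?_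
    rw [← h]; ring
  have hw := ZMod.wilsons_lemma (p := p)
  rw [← Nat.mul_factorial_pred (show p - 1 ≠ 0 by omega), Nat.cast_mul, Nat.cast_sub hp.out.one_lt.le,
    ZMod.natCast_self, Nat.cast_one, zero_sub, neg_mul, one_mul, neg_inj] at hw
  have h1 := card_sylow_modEq_one p G
  rw [hn, ← ZMod.natCast_eq_natCast_iff, Nat.cast_mul, hw, mul_one] at h1
  rw [ZMod.natCast_eq_natCast_iff, Nat.ModEq, Nat.mod_eq_of_lt (by omega), Nat.mod_eq_of_lt (by omega)] at h1
  omega

set_option maxHeartbeats 1000000 in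
/-- Five-fold transitivity. -/
theorem five_transitive (hΩ : Nat.card Ω = p) [IsPretransitive G Ω] (hins : ¬ Group.IsSolvable G)
    (P : Sylow p G) (hN : 2 * Nat.card ↥(Subgroup.normalizer ((P : Subgroup G) : Set G)) = p * (p - 1))
    {q : ℕ} (hq : q.Prime) (hq5 : 5 < q) (hpq : p = q + 2) :
    IsMultiplyPretransitive G Ω 5 := by
  classical
  letI := Fintype.ofFinite Ω
  haveI := Fact.mk hq
  have hcard : Fintype.card Ω = p := by rw [← Nat.card_eq_fintype_card, hΩ]
  haveI h3 := Linear.three_transitive hΩ hins P hN hq hq5 hpq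
  haveI h2 : IsMultiplyPretransitive G Ω 2 := PrimeHalfNormaliser.two_transitive hΩ hins
  have h2' : ∀ {a b c d : Ω}, a ≠ b → c ≠ d → ∃ g : G, g • a = c ∧ g • b = d :=
    fun {a b c d} hab hcd => (is_two_pretransitive_iff.mp h2) hab hcd
  obtain ⟨a, b, hab⟩ := Fintype.exists_pair_of_one_lt_card (α := Ω) (by omega)
  let D : Subgroup G := stabilizer G a ⊓ stabilizer G b
  have mD : ∀ {g : G}, g ∈ D ↔ g • a = a ∧ g • b = b := fun {g} => Iff.rfl
  let K : Subgroup G :=
    { carrier := {g | (g • a = a ∧ g • b = b) ∨ (g • a = b ∧ g • b = a)}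
      one_mem' := Or.inl ⟨one_smul _ _, one_smul _ _⟩
      mul_mem' := fun {g g'} h h' => by
        rcases h with ⟨h1, h2⟩ | ⟨h1, h2⟩ <;> rcases h' with ⟨h1', h2'⟩ | ⟨h1', h2'⟩ <;>
          simp [mul_smul, h1, h2, h1', h2']
      inv_mem' := fun {g} h => by
        rcases h with ⟨h1, h2⟩ | ⟨h1, h2⟩
        · exact Or.inl ⟨by rw [inv_smul_eq_iff, h1], by rw [inv_smul_eq_iff, h2]⟩
        · exact Or.inr ⟨by rw [inv_smul_eq_iff, h2], by rw [inv_smul_eq_iff, h1]⟩ }
  let β := {x : Ω // x ≠ a ∧ x ≠ b}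
  have hβ : Fintype.card β = q := by
    rw [Fintype.card_subtype, show (Finset.univ.filter fun x => x ≠ a ∧ x ≠ b) =
      (Finset.univ.erase a).erase b by ext x; simp [and_comm], Finset.card_erase_of_mem (by simp [hab.symm]),
      Finset.card_erase_of_mem (Finset.mem_univ a), Finset.card_univ, hcard]
    omega
  have hKpres : ∀ (g : K) (x : Ω), (x ≠ a ∧ x ≠ b) → (g : G) • x ≠ a ∧ (g : G) • x ≠ b := by
    rintro ⟨g, hg⟩ x ⟨hxa, hxb⟩
    rcases hg with ⟨h1, h2⟩ | ⟨h1, h2⟩
    · exact ⟨fun e => hxa (MulAction.injective g (e.trans h1.symm)),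
        fun e => hxb (MulAction.injective g (e.trans h2.symm))⟩
    · exact ⟨fun e => hxb (MulAction.injective g (e.trans h2.symm)),
        fun e => hxa (MulAction.injective g (e.trans h1.symm))⟩
  letI : MulAction K β :=
    { smul := fun g x => ⟨(g : G) • (x : Ω), hKpres g x x.2⟩
      one_smul := fun x => Subtype.ext (one_smul G (x : Ω))
      mul_smul := fun g g' x => Subtype.ext (mul_smul (g : G) (g' : G) (x : Ω)) }
  let ψ := MulAction.toPermHom K β
  have hψ : Function.Injective ψ := by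
    refine (injective_iff_map_eq_one ψ).2 fun g hg => ?_
    have hx : ∀ x : Ω, x ≠ a → x ≠ b → (g : G) • x = x := fun x h1 h2 =>
      congrArg Subtype.val (Equiv.ext_iff.1 hg ⟨x, h1, h2⟩)
    rcases g.2 with ⟨h1, h2'⟩ | ⟨h1, h2'⟩
    · refine Subtype.ext (FaithfulSMul.eq_of_smul_eq_smul (α := Ω) fun x => ?_)
      rw [Subgroup.coe_one, one_smul]
      by_cases hxa : x = a
      · rw [hxa, h1]
      by_cases hxb : x = b
      · rw [hxb, h2']
      exact hx x hxa hxb
    · refine absurd (fun x => ?_) (no_swap hΩ (by omega) h2 P hN hab (g : G))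
      by_cases hxa : x = a
      · rw [hxa, h1, Equiv.swap_apply_left]
      by_cases hxb : x = b
      · rw [hxb, h2', Equiv.swap_apply_right]
      rw [hx x hxa hxb, Equiv.swap_apply_of_ne_of_ne hxa hxb]
  let R₀ : Subgroup (Equiv.Perm β) := (D.subgroupOf K).map ψ
  let R : Subgroup (Equiv.Perm β) := ψ.range
  have hDK : D ≤ K := fun g hg => Or.inl (mD.1 hg)
  have hR₀c : Nat.card R₀ = Nat.card D := by
    rw [Subgroup.card_map_of_injective hψ]
    exact Nat.card_congr (Subgroup.subgroupOfEquivOfLe hDK).toEquiv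
  haveI : IsPretransitive R₀ β := ⟨fun x y => by
    let u : Fin 3 ↪ Ω := ⟨![a, b, x], by
      intro i j h; fin_cases i <;> fin_cases j <;>
        first | rfl | (simp [hab, hab.symm, x.2.1, x.2.1.symm, x.2.2, x.2.2.symm] at h)⟩
    let v : Fin 3 ↪ Ω := ⟨![a, b, y], by
      intro i j h; fin_cases i <;> fin_cases j <;>
        first | rfl | (simp [hab, hab.symm, y.2.1, y.2.1.symm, y.2.2, y.2.2.symm] at h)⟩
    obtain ⟨g, hg⟩ := h3.exists_smul_eq u v
    have hi : ∀ i, g • u i = v i := fun i => by rw [← hg]; rfl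
    have hgD : g ∈ D := mD.2 ⟨hi 0, hi 1⟩
    exact ⟨⟨ψ ⟨g, hDK hgD⟩, ⟨g, hDK hgD⟩, Subgroup.mem_subgroupOf.2 hgD, rfl⟩, Subtype.ext (hi 2)⟩⟩
  have hR₀R : R₀ ≤ R := Subgroup.map_le_range _ _
  have hR₀ins : ¬ Group.IsSolvable R₀ := by
    intro hs
    obtain ⟨e, he, hc⟩ := card_of_isSolvable hβ R₀ hs
    have hG : Nat.card G = p * (p - 1) * Nat.card D := by
      have e1 := CfsgLib.Perm.Basic.card_eq_mul_stabilizer (G := G) a
      have e2 : Nat.card (stabilizer G a) = (p - 1) * Nat.card D := by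
        have hrel : (stabilizer G b).relIndex (stabilizer G a) = p - 1 := by
          rw [Linear.relIndex_stabilizer, show orbit ↥(stabilizer G a) b = {x | x ≠ a} by
            ext x
            constructor
            · rintro ⟨⟨g, hg⟩, rfl⟩ e
              exact hab (MulAction.injective g ((mem_stabilizer_iff.1 hg).trans e.symm))
            · intro hx
              obtain ⟨g, g1, g2⟩ := h2' hab (Ne.symm hx)
              exact ⟨⟨g, g1⟩, g2⟩,
            show {x : Ω | x ≠ a} = Set.univ \ {a} by ext; simp, Set.ncard_sdiff_singleton_of_mem (Set.mem_univ a),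
            Set.ncard_univ, hΩ]
        have h' := ((stabilizer G b).subgroupOf (stabilizer G a)).card_mul_index
        rw [show ((stabilizer G b).subgroupOf (stabilizer G a)).index = p - 1 from hrel] at h'
        rw [← h', mul_comm]
        congr 1
        rw [← Subgroup.inf_subgroupOf_left]
        exact Nat.card_congr (Subgroup.subgroupOfEquivOfLe inf_le_left).toEquiv
      rw [e1, e2, hΩ, mul_assoc]
    have h := two_mul_card P hN
    rw [hG, ← hR₀c, hc] at h
    have hn : Nat.card (Sylow p G) = 2 * (q * e) := by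
      refine Nat.eq_of_mul_eq_mul_right (show 0 < p * (p - 1) from Nat.mul_pos hp.out.pos (by omega)) ?_
      rw [← h]; ring
    have h1 := card_sylow_modEq_one p G
    rw [hn, ← ZMod.natCast_eq_natCast_iff] at h1
    have hqc : (q : ZMod p) = -2 := by
      have : ((q + 2 : ℕ) : ZMod p) = 0 := by rw [← hpq, ZMod.natCast_self]
      push_cast at this
      linear_combination this
    push_cast at h1
    rw [hqc] at h1
    refine arith hp.out (by rwa [show p - 2 = q by omega]) (by omega) (show e ∣ p - 3 by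
      rwa [show p - 3 = q - 1 by omega]) ?_
    rw [← ZMod.natCast_eq_zero_iff]
    push_cast
    linear_combination -h1
  obtain ⟨σ, hσ⟩ : ∃ σ : G, σ • a = b ∧ σ • b = a := h2' hab hab.symm
  have hD2 : (D.subgroupOf K).index = 2 := by
    rw [Subgroup.index_eq_two_iff]
    refine ⟨⟨σ, Or.inr hσ⟩, fun k => ?_⟩
    simp only [Subgroup.mem_subgroupOf, mD, Subgroup.coe_mul, mul_smul, hσ.1, hσ.2]
    rcases k.2 with ⟨h1, h2''⟩ | ⟨h1, h2''⟩
    · refine Or.inr ⟨⟨h1, h2''⟩, fun h => hab.symm (h2''.symm.trans h.1)⟩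
    · refine Or.inl ⟨⟨h2'', h1⟩, fun h => hab.symm (h1.symm.trans h.1)⟩
  haveI : (D.subgroupOf K).Normal := Subgroup.normal_of_index_eq_two hD2
  let N₀ : Subgroup R := R₀.subgroupOf R
  have hN₀ : N₀.index = 2 := by
    rw [← hD2]
    show R₀.relIndex R = (D.subgroupOf K).index
    rw [show R = (⊤ : Subgroup K).map ψ from MonoidHom.range_eq_map ψ,
      Subgroup.relIndex_map_map_of_injective _ _ hψ, Subgroup.relIndex_top_right]
  haveI : N₀.Normal := Subgroup.normal_of_index_eq_two hN₀
  have hN₀c : Nat.card N₀ = Nat.card R₀ := Nat.card_congr (Subgroup.subgroupOfEquivOfLe hR₀R).toEquiv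
  haveI : IsPretransitive R β := ⟨fun x y => by
    obtain ⟨g, hg⟩ := exists_smul_eq R₀ x y
    exact ⟨⟨g, hR₀R g.2⟩, hg⟩⟩
  have hRins : ¬ Group.IsSolvable R := fun h => hR₀ins
    (Group.isSolvable_of_isSolvable_injective (f := Subgroup.inclusion hR₀R) (Subgroup.inclusion_injective _))
  obtain ⟨Q⟩ : Nonempty (Sylow q N₀) := inferInstance
  let QR : Sylow q R := ((Q.2.map N₀.subtype).toSylow (by
    rw [Subgroup.index_map_subtype, hN₀]
    intro h
    rcases hq.dvd_mul.1 h with h | h
    · exact Q.not_dvd_index h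
    · have := Nat.le_of_dvd two_pos h; omega))
  have heven : Even (Nat.card ↥(Subgroup.normalizer ((QR : Subgroup R) : Set R))) := by
    have hsup := Sylow.normalizer_sup_eq_top (N := N₀) Q
    set M := Subgroup.normalizer ((QR : Subgroup R) : Set R) with hM
    have hMQ : M = Subgroup.normalizer (((Q : Subgroup N₀).map N₀.subtype : Subgroup R) : Set R) := rfl
    have h2d : N₀.relIndex M ∣ 2 := hN₀ ▸ Subgroup.relIndex_dvd_index_of_normal N₀ M
    rcases (Nat.dvd_prime Nat.prime_two).1 h2d with h | h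
    · exfalso
      rw [Subgroup.relIndex_eq_one] at h
      rw [← hMQ, sup_eq_right.2 h] at hsup
      rw [hsup, Subgroup.index_top] at hN₀
      omega
    · rw [even_iff_two_dvd, ← h]
      exact (N₀.subgroupOf M).index_dvd_card
  haveI hR3 := Cfsg.Agent.S0676.result hβ R hRins QR heven
  haveI hR₀2 : IsMultiplyPretransitive R₀ β 2 :=
    (Cfsg.Agent.S0675.result (hβ ▸ hq) R₀).resolve_left hR₀ins
  -- the stabiliser of four points
  have hfour : ∀ c d x y : Ω, c ≠ a → c ≠ b → d ≠ a → d ≠ b → c ≠ d → x ≠ a → x ≠ b → x ≠ c → x ≠ d →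
      y ≠ a → y ≠ b → y ≠ c → y ≠ d →
      ∃ g : G, g • a = a ∧ g • b = b ∧ g • c = c ∧ g • d = d ∧ g • x = y := by
    intro c d x y hca hcb hda hdb hcd hxa hxb hxc hxd hya hyb hyc hyd
    let c' : β := ⟨c, hca, hcb⟩
    let d' : β := ⟨d, hda, hdb⟩
    let x' : β := ⟨x, hxa, hxb⟩
    let Kcd : Subgroup K := stabilizer K c' ⊓ stabilizer K d'
    let L : Subgroup K := D.subgroupOf K ⊓ Kcd
    have hKorb : orbit Kcd x' = ({c', d'} : Set β)ᶜ := by
      ext z
      simp only [Set.mem_compl_iff, Set.mem_insert_iff, Set.mem_singleton_iff, not_or]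
      constructor
      · rintro ⟨⟨g, hg1, hg2⟩, rfl⟩
        refine ⟨fun e => hxc ?_, fun e => hxd ?_⟩
        · exact congrArg Subtype.val (MulAction.injective g (e.trans (mem_stabilizer_iff.1 hg1).symm))
        · exact congrArg Subtype.val (MulAction.injective g (e.trans (mem_stabilizer_iff.1 hg2).symm))
      · rintro ⟨hzc, hzd⟩
        have hzc' : (z : Ω) ≠ c := fun e => hzc (Subtype.ext e)
        have hzd' : (z : Ω) ≠ d := fun e => hzd (Subtype.ext e)
        let u : Fin 3 ↪ β := ⟨![c', d', x'], by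
          intro i j h
          have h' := congrArg Subtype.val h
          fin_cases i <;> fin_cases j <;>
            first | rfl | (simp [c', d', x', hcd, hcd.symm, hxc, hxc.symm, hxd, hxd.symm] at h')⟩
        let v : Fin 3 ↪ β := ⟨![c', d', z], by
          intro i j h
          have h' := congrArg Subtype.val h
          fin_cases i <;> fin_cases j <;>
            first | rfl | (simp [c', d', hcd, hcd.symm, hzc', hzc'.symm, hzd', hzd'.symm] at h')⟩
        obtain ⟨⟨_, g, rfl⟩, hg⟩ := hR3.exists_smul_eq u v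
        have hi : ∀ i, g • u i = v i := fun i => by
          have := congrArg (fun w : Fin 3 ↪ β => w i) hg
          exact this
        exact ⟨⟨g, hi 0, hi 1⟩, hi 2⟩
    have e1 : (stabilizer K x').relIndex Kcd = q - 2 := by
      rw [Linear.relIndex_stabilizer, hKorb, Set.ncard_compl, Set.ncard_pair (fun e => hcd (congrArg Subtype.val e)),
        Nat.card_eq_fintype_card, hβ]
    have e2 : L.relIndex Kcd ∣ 2 := by
      rw [show L.relIndex Kcd = (D.subgroupOf K).relIndex Kcd from Subgroup.inf_relIndex_right _ _, ← hD2]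
      exact Subgroup.relIndex_dvd_index_of_normal _ _
    set o := (stabilizer K x').relIndex L with ho
    have e3 : o * L.relIndex Kcd = (q - 2) * L.relIndex (Kcd ⊓ stabilizer K x') := by
      have h1 : ((L ⊓ stabilizer K x')).relIndex Kcd = o * L.relIndex Kcd := by
        rw [← Subgroup.relIndex_mul_relIndex _ L Kcd inf_le_left inf_le_right, Subgroup.inf_relIndex_left]
      rw [← h1, show L ⊓ stabilizer K x' = L ⊓ (Kcd ⊓ stabilizer K x') by
          rw [← inf_assoc, show L ⊓ Kcd = L from inf_eq_left.2 inf_le_right],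
        ← Subgroup.relIndex_mul_relIndex _ (Kcd ⊓ stabilizer K x') Kcd inf_le_right inf_le_left,
        Subgroup.inf_relIndex_right, Subgroup.inf_relIndex_left, e1, mul_comm]
    have hdvd : q - 2 ∣ o := by
      refine Nat.Coprime.dvd_of_dvd_mul_right ?_ ⟨_, e3⟩
      rcases (Nat.dvd_prime Nat.prime_two).1 e2 with h | h <;> rw [h]
      · exact Nat.coprime_one_right _
      · rw [Nat.coprime_comm, Nat.prime_two.coprime_iff_not_dvd]
        have := Nat.odd_iff.1 (hq.odd_of_ne_two (by omega))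
        omega
    have horb : orbit L x' ⊆ orbit Kcd x' := by
      rintro z ⟨⟨g, hg⟩, rfl⟩
      exact ⟨⟨g, hg.2⟩, rfl⟩
    have heq : orbit L x' = orbit Kcd x' := by
      refine Set.eq_of_subset_of_ncard_le horb ?_ (Set.toFinite _)
      rw [← Linear.relIndex_stabilizer, ← Linear.relIndex_stabilizer, e1]
      refine Nat.le_of_dvd ?_ hdvd
      rw [Linear.relIndex_stabilizer]
      exact (Set.ncard_pos (Set.toFinite _)).2 ⟨x', mem_orbit_self x'⟩
    have hy : (⟨y, hya, hyb⟩ : β) ∈ orbit L x' := by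
      rw [heq, hKorb]
      simp [c', d', hyc, hyd]
    obtain ⟨⟨g, hgD, hgc, hgd⟩, hg⟩ := hy
    obtain ⟨g1, g2⟩ := mD.1 (Subgroup.mem_subgroupOf.1 hgD)
    exact ⟨g, g1, g2, congrArg Subtype.val hgc, congrArg Subtype.val hgd, congrArg Subtype.val hg⟩
  refine ⟨fun u v => ?_⟩
  -- move every quintuple to a normal form
  have norm : ∀ w : Fin 5 ↪ Ω, ∃ g : G, g • w 0 = a ∧ g • w 1 = b := fun w =>
    h2' (w.injective.ne (by decide)) hab
  obtain ⟨g, g0, g1⟩ := norm u
  obtain ⟨k, k0, k1⟩ := norm v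
  have hne : ∀ (g : G) (w : Fin 5 ↪ Ω), g • w 0 = a → g • w 1 = b → ∀ i, i ≠ 0 → i ≠ 1 →
      g • w i ≠ a ∧ g • w i ≠ b := fun g w h0 h1 i hi0 hi1 =>
    ⟨fun e => w.injective.ne hi0 (MulAction.injective g (e.trans h0.symm)),
      fun e => w.injective.ne hi1 (MulAction.injective g (e.trans h1.symm))⟩
  have hu : ∀ i, i ≠ 0 → i ≠ 1 → g • u i ≠ a ∧ g • u i ≠ b := hne g u g0 g1
  have hv : ∀ i, i ≠ 0 → i ≠ 1 → k • v i ≠ a ∧ k • v i ≠ b := hne k v k0 k1
  have hu23 : (⟨g • u 2, hu 2 (by decide) (by decide)⟩ : β) ≠ ⟨g • u 3, hu 3 (by decide) (by decide)⟩ :=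
    fun e => u.injective.ne (show (2 : Fin 5) ≠ 3 by decide) (MulAction.injective g (congrArg Subtype.val e))
  have hv23 : (⟨k • v 2, hv 2 (by decide) (by decide)⟩ : β) ≠ ⟨k • v 3, hv 3 (by decide) (by decide)⟩ :=
    fun e => v.injective.ne (show (2 : Fin 5) ≠ 3 by decide) (MulAction.injective k (congrArg Subtype.val e))
  obtain ⟨⟨_, m, hm, rfl⟩, hm2, hm3⟩ := (is_two_pretransitive_iff.mp hR₀2) hu23 hv23
  obtain ⟨m0, m1⟩ := mD.1 (Subgroup.mem_subgroupOf.1 hm)
  have hm2' : (m : G) • g • u 2 = k • v 2 := congrArg Subtype.val hm2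
  have hm3' : (m : G) • g • u 3 = k • v 3 := congrArg Subtype.val hm3
  have hu4 := hne ((m : G) * g) u (by rw [mul_smul, g0, m0]) (by rw [mul_smul, g1, m1]) 4 (by decide) (by decide)
  obtain ⟨n, n0, n1, n2, n3, n4⟩ := hfour (k • v 2) (k • v 3) (((m : G) * g) • u 4) (k • v 4)
    (hv 2 (by decide) (by decide)).1 (hv 2 (by decide) (by decide)).2
    (hv 3 (by decide) (by decide)).1 (hv 3 (by decide) (by decide)).2
    (fun e => v.injective.ne (show (2 : Fin 5) ≠ 3 by decide) (MulAction.injective k e))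
    hu4.1 hu4.2
    (fun e => u.injective.ne (show (4 : Fin 5) ≠ 2 by decide)
      (MulAction.injective ((m : G) * g) (e.trans (hm2'.symm.trans (mul_smul _ _ _).symm))))
    (fun e => u.injective.ne (show (4 : Fin 5) ≠ 3 by decide)
      (MulAction.injective ((m : G) * g) (e.trans (hm3'.symm.trans (mul_smul _ _ _).symm))))
    (hv 4 (by decide) (by decide)).1 (hv 4 (by decide) (by decide)).2
    (fun e => v.injective.ne (show (4 : Fin 5) ≠ 2 by decide) (MulAction.injective k e))
    (fun e => v.injective.ne (show (4 : Fin 5) ≠ 3 by decide) (MulAction.injective k e))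
  refine ⟨k⁻¹ * (n * ((m : G) * g)), ?_⟩
  ext i
  show (k⁻¹ * (n * ((m : G) * g))) • u i = v i
  rw [mul_smul, inv_smul_eq_iff, mul_smul]
  fin_cases i
  · show n • ((m : G) * g) • u 0 = k • v 0
    rw [mul_smul, g0, m0, n0, k0]
  · show n • ((m : G) * g) • u 1 = k • v 1
    rw [mul_smul, g1, m1, n1, k1]
  · show n • ((m : G) * g) • u 2 = k • v 2
    rw [mul_smul, hm2', n2]
  · show n • ((m : G) * g) • u 3 = k • v 3
    rw [mul_smul, hm3', n3]
  · show n • ((m : G) * g) • u 4 = k • v 4
    exact n4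

end CfsgLib.PGroup.TwinPrime.Transitive
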