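import Cfsg.Agent.Lib.PGroup.TwinPrime.Triples

/-!
A Steiner triple system of prime order all of whose triangles generate a Fano plane is a projective
space over two elements, and then few multipliers fix its translations.
-/

set_option autoImplicit false
set_option linter.unusedSectionVars false
set_option linter.style.haveILetI false

namespace CfsgLib.PGroup.TwinPrime.Binary

open Triples

variable {Ω : Type*} {op : Ω → Ω → Ω}

/-- The sum with an adjoined zero. -/
noncomputable def add (op : Ω → Ω → Ω) : Option Ω → Option Ω → Option Ω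
  | none, y => y
  | some x, none => some x
  | some x, some y => by
    classical
    exact if x = y then none else some (op x y)

theorem add_none (x : Option Ω) : add op x none = x := by cases x <;> rfl

theorem none_add (x : Option Ω) : add op none x = x := by cases x <;> rfl

theorem add_self (x : Option Ω) : add op x x = none := by
  classical
  cases x <;> simp [add]

theorem add_of_ne {x y : Ω} (h : x ≠ y) : add op (some x) (some y) = some (op x y) := by
  classical
  simp [add, h]

theorem add_comm' (hS : IsSteiner op) (x y : Option Ω) : add op x y = add op y x := by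
  classical
  cases x <;> cases y <;> simp [add]
  rename_i a b
  by_cases h : a = b
  · simp [h]
  · simp [h, Ne.symm h, hS.comm a b]

theorem assoc (hS : IsSteiner op)
    (hall : ∀ a b d, Tri op a b d → op b (op a d) = op (op a b) d) (x y z : Option Ω) :
    add op (add op x y) z = add op x (add op y z) := by
  classical
  rcases x with _ | x
  · rw [none_add, none_add]
  rcases y with _ | y
  · rw [add_none, none_add]
  rcases z with _ | z
  · rw [add_none, add_none]
  by_cases hxy : x = y
  · subst hxy
    rw [add_self, none_add]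
    by_cases hxz : x = z
    · subst hxz; rw [add_self, add_none]
    · rw [add_of_ne hxz, add_of_ne (Ne.symm (hS.ne x z hxz)), hS.cancel]
  by_cases hyz : y = z
  · subst hyz
    rw [add_self, add_none, add_of_ne hxy, add_of_ne (fun h => hS.ne y x (Ne.symm hxy) (by rw [hS.comm]; exact h)),
      hS.comm, hS.comm x, hS.cancel]
  rw [add_of_ne hxy, add_of_ne hyz]
  by_cases hz : z = op x y
  · subst hz
    rw [add_self, hS.comm x y, hS.cancel, add_self]
  have hx : x ≠ op y z := fun h => hz (by rw [h, hS.comm, hS.cancel])
  rw [add_of_ne (Ne.symm hz), add_of_ne hx]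
  congr 1
  by_cases hxz : x = z
  · subst hxz
    rw [hS.comm (op x y) x, hS.cancel, hS.comm y x, hS.cancel]
  rw [hS.comm x y]
  exact (hall y x z ⟨Ne.symm hxy, Ne.symm hyz, Ne.symm hxz, by rwa [hS.comm]⟩).symm

/-- The projective spaces over two elements do not admit all square multipliers. -/
theorem false_of_all [Finite Ω] {p : ℕ} [hp : Fact p.Prime] (hp7 : 7 < p) (hS : IsSteiner op)
    (hall : ∀ a b d, Tri op a b d → op b (op a d) = op (op a b) d)
    (e : Ω ≃ ZMod p) (s : Equiv.Perm Ω) (hs : ∀ x, e (s x) = e x + 1)
    (hsa : ∀ x y, s (op x y) = op (s x) (s y))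
    (hsq : ∀ c : (ZMod p)ˣ, ∃ t : Equiv.Perm Ω, (∀ x, e (t x) = (c : ZMod p) ^ 2 * e x) ∧
      ∀ x y, t (op x y) = op (t x) (t y)) : False := by
  classical
  have hp' : p.Prime := hp.out
  letI iAdd : Add (Option Ω) := ⟨add op⟩
  letI iZ : Zero (Option Ω) := ⟨none⟩
  letI iN : Neg (Option Ω) := ⟨id⟩
  letI iG : AddGroup (Option Ω) :=
    AddGroup.ofLeftAxioms (fun x y z => assoc hS hall x y z) none_add (fun x => add_self x)
  letI iA : AddCommGroup (Option Ω) := { iG with add_comm := add_comm' hS }
  have h2 : ∀ x : Option Ω, (2 : ℕ) • x = 0 := fun x => by rw [two_nsmul]; exact add_self x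
  letI iM : Module (ZMod 2) (Option Ω) := AddCommGroup.zmodModule h2
  haveI : Fact (Nat.Prime 2) := ⟨Nat.prime_two⟩
  haveI : Module.Finite (ZMod 2) (Option Ω) := Module.Finite.of_finite
  -- automorphisms are linear
  let lin : ∀ t : Equiv.Perm Ω, (∀ x y, t (op x y) = op (t x) (t y)) →
      (Option Ω →ₗ[ZMod 2] Option Ω) := fun t ht => AddMonoidHom.toZModLinearMap 2
    { toFun := Option.map t
      map_zero' := rfl
      map_add' := fun x y => by
        show Option.map t (add op x y) = add op (Option.map t x) (Option.map t y)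
        rcases x with _ | x
        · rw [none_add, Option.map_none, none_add]
        rcases y with _ | y
        · rw [add_none, Option.map_none, add_none]
        by_cases h : x = y
        · subst h; rw [add_self, Option.map_none, add_self]
        · rw [add_of_ne h, Option.map_some, Option.map_some, Option.map_some,
            add_of_ne fun e => h (t.injective e), ht] }
  have hlin : ∀ t ht x, lin t ht (some x) = some (t x) := fun t ht x => rfl
  let S := lin s hsa
  let x₀ := e.symm 0
  let v₀ : Option Ω := some x₀
  have hpow : ∀ (n : ℕ) (x : Ω), (S ^ n) (some x) = some ((s ^ n) x) := fun n => by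
    induction n with
    | zero => intro x; rfl
    | succ n ih =>
      intro x
      rw [pow_succ', Module.End.mul_apply, ih, pow_succ', Equiv.Perm.mul_apply]
      rfl
  have hsn : ∀ (n : ℕ) (x : Ω), e ((s ^ n) x) = e x + n := fun n => by
    induction n with
    | zero => simp
    | succ n ih => intro x; rw [pow_succ', Equiv.Perm.mul_apply, hs, ih]; push_cast; ring
  have horb : ∀ v : Option Ω, v ≠ 0 → ∃ n : ℕ, v = (S ^ n) v₀ := by
    intro v hv
    rcases v with _ | x
    · exact absurd rfl hv
    · refine ⟨(e x).val, ?_⟩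
      rw [hpow]
      congr 1
      exact e.injective (by rw [hsn, e.apply_symm_apply, zero_add, ZMod.natCast_zmod_val])
  let R := Algebra.adjoin (ZMod 2) ({S} : Set (Module.End (ZMod 2) (Option Ω)))
  have hSR : S ∈ R := Algebra.subset_adjoin rfl
  have hcommR : ∀ r ∈ R, ∀ n : ℕ, r * S ^ n = S ^ n * r := by
    intro r hr n
    induction hr using Algebra.adjoin_induction with
    | mem x hx => rw [Set.mem_singleton_iff.1 hx, ← pow_succ', ← pow_succ]
    | algebraMap c => exact Algebra.commutes c _
    | add x y _ _ hx hy => rw [add_mul, hx, hy, mul_add]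
    | mul x y _ _ hx hy => rw [mul_assoc, hy, ← mul_assoc, hx, mul_assoc]
  have hinj0 : ∀ r ∈ R, r v₀ = 0 → r = 0 := by
    intro r hr h0
    refine LinearMap.ext fun v => ?_
    by_cases hv : v = 0
    · rw [hv, map_zero, LinearMap.zero_apply]
    obtain ⟨n, rfl⟩ := horb v hv
    rw [← Module.End.mul_apply, hcommR r hr, Module.End.mul_apply, h0, map_zero, LinearMap.zero_apply]
  let ev : R →ₗ[ZMod 2] Option Ω :=
    { toFun := fun r => (r : Module.End (ZMod 2) (Option Ω)) v₀
      map_add' := fun r r' => rfl
      map_smul' := fun c r => rfl }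
  have hev : Function.Bijective ev := by
    refine ⟨fun r r' h => sub_eq_zero.1 (Subtype.ext (hinj0 _ (r - r').2 ?_)), fun v => ?_⟩
    · show ev (r - r') = 0
      rw [map_sub, h, sub_self]
    · by_cases hv : v = 0
      · exact ⟨0, by rw [map_zero, hv]⟩
      obtain ⟨n, rfl⟩ := horb v hv
      exact ⟨⟨S ^ n, pow_mem hSR n⟩, rfl⟩
  letI : CommRing R :=
    { (inferInstance : Ring R) with
      mul_comm := fun a b => by
        apply hev.injective
        show ((a : Module.End (ZMod 2) (Option Ω)) * b) v₀ = ((b : Module.End (ZMod 2) (Option Ω)) * a) v₀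
        by_cases hb : (b : Module.End (ZMod 2) (Option Ω)) v₀ = 0
        · rw [hinj0 b b.2 hb, mul_zero, zero_mul]
        · obtain ⟨n, hn⟩ := horb _ hb
          have : b = ⟨S ^ n, pow_mem hSR n⟩ := hev.injective hn
          rw [this, hcommR a a.2] }
  haveI : NoZeroDivisors R := ⟨fun {a b} h => by
    by_cases hb : b = 0
    · exact Or.inr hb
    left
    have hb' : (b : Module.End (ZMod 2) (Option Ω)) v₀ ≠ 0 := fun e => hb (Subtype.ext (hinj0 b b.2 e))
    obtain ⟨n, hn⟩ := horb _ hb'
    have hb2 : b = ⟨S ^ n, pow_mem hSR n⟩ := hev.injective hn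
    rw [hb2] at h
    have h' : (a : Module.End (ZMod 2) (Option Ω)) * S ^ n = 0 := congrArg Subtype.val h
    have hcanc : S ^ n * S ^ (p * n - n) = 1 := by
      rw [← pow_add, Nat.add_sub_cancel' (Nat.le_mul_of_pos_left n hp'.pos)]
      refine LinearMap.ext fun v => ?_
      rcases v with _ | x
      · exact map_zero _
      · rw [hpow]
        exact congrArg some (e.injective (by
          rw [hsn, Nat.cast_mul, ZMod.natCast_self, zero_mul, add_zero]))
    refine Subtype.ext ?_
    calc (a : Module.End (ZMod 2) (Option Ω)) = a * (S ^ n * S ^ (p * n - n)) := by rw [hcanc, mul_one]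
      _ = 0 := by rw [← mul_assoc, h', zero_mul]⟩
  haveI : Nontrivial (Option Ω) := ⟨⟨none, v₀, by simp [v₀]⟩⟩
  haveI : Nontrivial R := hev.surjective.nontrivial
  haveI : IsDomain R := NoZeroDivisors.to_isDomain R
  let α : R := ⟨S, hSR⟩
  set f := minpoly (ZMod 2) α with hf
  haveI : Module.Finite (ZMod 2) R := Module.Finite.equiv (LinearEquiv.ofBijective ev hev).symm
  have hint : IsIntegral (ZMod 2) α := Algebra.IsIntegral.isIntegral α
  have hdeg : f.natDegree ≤ Module.finrank (ZMod 2) (Option Ω) :=
    (minpoly.natDegree_le α).trans (LinearEquiv.ofBijective ev hev).finrank_eq.le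
  have hd : p + 1 = 2 ^ Module.finrank (ZMod 2) (Option Ω) := by
    have h := Module.natCard_eq_pow_finrank (K := ZMod 2) (V := Option Ω)
    rw [Finite.card_option, Nat.card_congr e, Nat.card_zmod] at h
    rw [h]; simp
  -- squares give roots
  let M : Finset (ZMod p) := (Finset.univ.image fun c : (ZMod p)ˣ => (c : ZMod p) ^ 2)
  let root : ZMod p → R := fun μ => α ^ μ.val
  have hroot : ∀ μ ∈ M, root μ ∈ (f.map (algebraMap (ZMod 2) R)).roots := by
    intro μ hμ
    obtain ⟨c, -, rfl⟩ := Finset.mem_image.1 hμ
    obtain ⟨t, ht, hta⟩ := hsq c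
    rw [Polynomial.mem_roots_map (minpoly.ne_zero hint)]
    have h0 : Polynomial.aeval α f = 0 := minpoly.aeval _ _
    rw [← Polynomial.aeval_def]
    apply hev.injective
    rw [map_zero]
    have h0' : ev (Polynomial.aeval α f) = 0 := by rw [h0, map_zero]
    rw [Polynomial.aeval_eq_sum_range, map_sum] at h0' ⊢
    have key : ∀ i : ℕ, ev (root ((c : ZMod p) ^ 2) ^ i) = lin t hta (ev (α ^ i)) := by
      intro i
      show ((S ^ ((c : ZMod p) ^ 2).val) ^ i) (some x₀) = lin t hta ((S ^ i) (some x₀))
      rw [← pow_mul, hpow, hpow, hlin t hta]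
      refine congrArg some (e.injective ?_)
      rw [hsn, ht, hsn, e.apply_symm_apply, zero_add, zero_add, Nat.cast_mul, ZMod.natCast_zmod_val]
    simp only [map_smul, key]
    simp only [map_smul] at h0'
    rw [← map_zero (lin t hta), ← h0', map_sum]
    exact Finset.sum_congr rfl fun i _ => (map_smul (lin t hta) _ _).symm
  have hinj : Set.InjOn root M := by
    intro μ _ ν _ h
    have h' : ev (α ^ μ.val) = ev (α ^ ν.val) := congrArg ev h
    change (S ^ μ.val) (some x₀) = (S ^ ν.val) (some x₀) at h'
    rw [hpow, hpow] at h'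
    have h'' := congrArg e (Option.some_injective _ h')
    rwa [hsn, hsn, e.apply_symm_apply, zero_add, zero_add, ZMod.natCast_zmod_val, ZMod.natCast_zmod_val] at h''
  have hMc : p - 1 ≤ 2 * M.card := by
    have h := Finset.card_le_mul_card_image (s := (Finset.univ : Finset (ZMod p)ˣ))
      (f := fun c : (ZMod p)ˣ => (c : ZMod p) ^ 2) 2 (fun μ hμ => by
        obtain ⟨c, -, rfl⟩ := Finset.mem_image.1 hμ
        refine (Finset.card_le_card (t := ({c, -c} : Finset (ZMod p)ˣ)) fun u hu => ?_).trans Finset.card_le_two
        simp only [Finset.mem_filter, Finset.mem_univ, true_and] at hu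
        rcases sq_eq_sq_iff_eq_or_eq_neg.1 hu with h | h
        · simp [Units.ext h]
        · simp [show u = -c from Units.ext (by simpa using h)])
    rwa [Finset.card_univ, ZMod.card_units] at h
  have hle : M.card ≤ f.natDegree := by
    refine le_trans ?_ ((Polynomial.card_roots' (f.map (algebraMap (ZMod 2) R))).trans Polynomial.natDegree_map_le)
    refine le_trans ?_ (Multiset.toFinset_card_le _)
    exact Finset.card_le_card_of_injOn root (fun μ hμ => Multiset.mem_toFinset.2 (hroot μ hμ)) hinj
  obtain ⟨d, hd'⟩ : ∃ d, d = Module.finrank (ZMod 2) (Option Ω) := ⟨_, rfl⟩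
  rw [← hd'] at hd hdeg
  have h4 : ∀ n, 4 ≤ n → 2 * n + 2 < 2 ^ n := by
    intro n hn
    induction n, hn using Nat.le_induction with
    | base => norm_num
    | succ n hn ih => rw [pow_succ]; omega
  by_cases hd4 : 4 ≤ d
  · have := h4 d hd4; omega
  · have : 2 ^ d ≤ 2 ^ 3 := Nat.pow_le_pow_right (by norm_num) (by omega)
    omega

end CfsgLib.PGroup.TwinPrime.Binary
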