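import Cfsg.Agent.Lib.PGroup.TwinPrime.Binary
import Cfsg.Agent.Lib.PGroup.PrimeHalfNormaliser
import Cfsg.Agent.S0676

/-!
Prime degree `p = q + 2` with half Sylow normaliser: the group is triply transitive.  Otherwise the
short orbits of the two point stabilisers would form a Steiner triple system.
-/

set_option autoImplicit false
set_option linter.unusedSectionVars false
set_option linter.style.haveILetI false

namespace CfsgLib.PGroup.TwinPrime.Linear

open MulAction CfsgLib.PGroup.PrimeHalfNormaliser Triples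

theorem relIndex_stabilizer {G Ω : Type*} [Group G] [MulAction G Ω] (M : Subgroup G) (d : Ω) :
    (stabilizer G d).relIndex M = Set.ncard (orbit M d) := by
  rw [← index_stabilizer]
  rfl

/-- A set of residues on which a group of affine maps is transitive on unordered pairs is small. -/
theorem card_le_three {p : ℕ} [Fact p.Prime] (L : Finset (ZMod p)) (hlt : L.card < p) {a b : ZMod p}
    (hab : a ≠ b)
    (hmaps : ∀ u ∈ L, ∀ v ∈ L, u ≠ v → ∃ α β : ZMod p, α ≠ 0 ∧ (∀ x ∈ L, α * x + β ∈ L) ∧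
      ((α * a + β = u ∧ α * b + β = v) ∨ (α * a + β = v ∧ α * b + β = u))) :
    L.card ≤ 3 := by
  classical
  have hp : p.Prime := Fact.out
  by_contra hL
  have hL4 : 4 ≤ L.card := by omega
  let A : Finset (ZMod p × ZMod p) := Finset.univ.filter fun f => f.1 ≠ 0 ∧ ∀ x ∈ L, f.1 * x + f.2 ∈ L
  have htrans : ∀ β, (∀ x ∈ L, x + β ∈ L) → β = 0 := by
    intro β h
    by_contra hβ
    obtain ⟨x₀, hx₀⟩ : L.Nonempty := Finset.card_pos.1 (by omega)
    have hall : ∀ n : ℕ, x₀ + n * β ∈ L := fun n => by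
      induction n with
      | zero => simpa using hx₀
      | succ n ih => have := h _ ih; rw [Nat.cast_succ]; ring_nf at this ⊢; exact this
    have : (Finset.univ : Finset (ZMod p)) ⊆ L := fun y _ => by
      have := hall ((y - x₀) * β⁻¹).val
      rwa [ZMod.natCast_zmod_val, inv_mul_cancel_right₀ hβ, add_sub_cancel] at this
    have := Finset.card_le_card this
    rw [Finset.card_univ, ZMod.card] at this
    omega
  have hinv : ∀ f ∈ A, ∀ y ∈ L, ∃ x ∈ L, f.1 * x + f.2 = y := by
    intro f hf y hy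
    obtain ⟨-, hf0, hf⟩ := Finset.mem_filter.1 hf
    have : L.image (fun x => f.1 * x + f.2) = L := Finset.eq_of_subset_of_card_le
      (fun z hz => by obtain ⟨x, hx, rfl⟩ := Finset.mem_image.1 hz; exact hf x hx)
      (by rw [Finset.card_image_of_injective _ fun x x' h => mul_left_cancel₀ hf0 (add_right_cancel h)])
    rw [← this] at hy
    exact Finset.mem_image.1 hy
  have hfun : ∀ f ∈ A, ∀ f' ∈ A, f.1 = f'.1 → f = f' := by
    intro f hf f' hf' h
    obtain ⟨-, hf0, hfL⟩ := Finset.mem_filter.1 hf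
    refine Prod.ext h (sub_eq_zero.1 ?_)
    have h0 : f'.1⁻¹ * (f.2 - f'.2) = 0 := htrans _ fun x hx => by
      obtain ⟨z, hz, e⟩ := hinv f' hf' _ (hfL x hx)
      have hf0' := (Finset.mem_filter.1 hf').2.1
      have : x + f'.1⁻¹ * (f.2 - f'.2) = z := by
        apply mul_left_cancel₀ hf0'
        rw [mul_add, ← mul_assoc, mul_inv_cancel₀ hf0', one_mul]
        rw [h] at e
        linear_combination -e
      rwa [this]
    exact (mul_eq_zero.1 h0).resolve_left (inv_ne_zero (Finset.mem_filter.1 hf').2.1)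
  have hcomm : ∀ f ∈ A, ∀ f' ∈ A, f.1 * f'.2 + f.2 = f'.1 * f.2 + f'.2 := by
    intro f hf f' hf'
    have hmem : ∀ f ∈ A, ∀ f' ∈ A, (f.1 * f'.1, f.1 * f'.2 + f.2) ∈ A := by
      intro f hf f' hf'
      obtain ⟨-, hf0, hfL⟩ := Finset.mem_filter.1 hf
      obtain ⟨-, hf0', hfL'⟩ := Finset.mem_filter.1 hf'
      refine Finset.mem_filter.2 ⟨Finset.mem_univ _, mul_ne_zero hf0 hf0', fun x hx => ?_⟩
      have := hfL _ (hfL' x hx)
      rwa [mul_add, ← mul_assoc, add_assoc] at this
    exact congrArg Prod.snd (hfun _ (hmem f hf f' hf') _ (hmem f' hf' f hf) (mul_comm _ _))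
  obtain ⟨u₀, hu₀, hinj⟩ : ∃ u₀ ∈ L, ∀ f ∈ A, ∀ f' ∈ A, f.1 * u₀ + f.2 = f'.1 * u₀ + f'.2 → f = f' := by
    by_cases h1 : ∃ f ∈ A, f.1 ≠ 1
    · obtain ⟨g, hg, hg1⟩ := h1
      set z := g.2 / (1 - g.1) with hz
      have h1g : (1 : ZMod p) - g.1 ≠ 0 := sub_ne_zero.2 (Ne.symm hg1)
      have hgz : g.2 = z * (1 - g.1) := by rw [hz, div_mul_cancel₀ _ h1g]
      have hfix : ∀ f ∈ A, f.1 * z + f.2 = z := fun f hf => by
        refine mul_right_cancel₀ h1g ?_
        have := hcomm g hg f hf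
        rw [hgz] at this
        linear_combination -this
      obtain ⟨u₀, hu₀, hu₀z⟩ := Finset.exists_mem_ne (show 1 < L.card by omega) z
      refine ⟨u₀, hu₀, fun f hf f' hf' h => hfun f hf f' hf' ?_⟩
      have h' : (f.1 - f'.1) * (u₀ - z) = 0 := by
        linear_combination h - hfix f hf + hfix f' hf'
      exact sub_eq_zero.1 ((mul_eq_zero.1 h').resolve_right (sub_ne_zero.2 hu₀z))
    · push Not at h1
      obtain ⟨u₀, hu₀⟩ : L.Nonempty := Finset.card_pos.1 (by omega)
      exact ⟨u₀, hu₀, fun f hf f' hf' _ => hfun f hf f' hf' ((h1 f hf).trans (h1 f' hf').symm)⟩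
  have hA : A.card ≤ L.card :=
    Finset.card_le_card_of_injOn (fun f => f.1 * u₀ + f.2) (fun f hf => (Finset.mem_filter.1 hf).2.2 u₀ hu₀)
      fun f hf f' hf' h => hinj f hf f' hf' h
  have hP : L.offDiag.card ≤ (A ×ˢ (Finset.univ : Finset Bool)).card := by
    refine Finset.card_le_card_of_surjOn
      (fun fb : (ZMod p × ZMod p) × Bool =>
        if fb.2 then (fb.1.1 * a + fb.1.2, fb.1.1 * b + fb.1.2) else (fb.1.1 * b + fb.1.2, fb.1.1 * a + fb.1.2)) ?_
    rintro ⟨u, v⟩ huv
    obtain ⟨hu, hv, huv⟩ := Finset.mem_offDiag.1 huv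
    obtain ⟨α, β, hα, hmap, h⟩ := hmaps u hu v hv huv
    have hf : (α, β) ∈ A := Finset.mem_filter.2 ⟨Finset.mem_univ _, hα, hmap⟩
    rcases h with ⟨h1, h2⟩ | ⟨h1, h2⟩
    · exact ⟨((α, β), true), by simp [hf], by simp [h1, h2]⟩
    · exact ⟨((α, β), false), by simp [hf], by simp [h1, h2]⟩
  rw [Finset.offDiag_card, Finset.card_product, Finset.card_univ, Fintype.card_bool] at hP
  have h4 : 4 * L.card ≤ L.card * L.card := Nat.mul_le_mul_right _ hL4
  omega

variable {G Ω : Type*} [Group G] [Finite G] [MulAction G Ω] [FaithfulSMul G Ω] [Finite Ω]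
  {p : ℕ} [hp : Fact p.Prime]

set_option maxHeartbeats 1000000 in
/-- The case `p ≡ 3 (mod 4)`. -/
theorem three_of_mod_three (hΩ : Nat.card Ω = p) [IsPretransitive G Ω] (hins : ¬ Group.IsSolvable G)
    (P : Sylow p G) (hN : 2 * Nat.card ↥(Subgroup.normalizer ((P : Subgroup G) : Set G)) = p * (p - 1))
    (hp3 : p % 4 = 3) (hp7 : 7 < p) {q : ℕ} (hq : q.Prime) (hpq : p = q + 2) :
    IsMultiplyPretransitive G Ω 3 := by
  classical
  letI := Fintype.ofFinite Ω
  have hp' : p.Prime := hp.out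
  have hcard : Fintype.card Ω = p := by rw [← Nat.card_eq_fintype_card, hΩ]
  haveI h2t : IsMultiplyPretransitive G Ω 2 := two_transitive hΩ hins
  have h2 : ∀ {a b c d : Ω}, a ≠ b → c ≠ d → ∃ g : G, g • a = c ∧ g • b = d :=
    fun {a b c d} hab hcd => (is_two_pretransitive_iff.mp h2t) hab hcd
  by_contra hnot
  -- two orbits of every two point stabiliser
  have htwo : ∀ α β : Ω, α ≠ β → ∃ c d : Ω, c ≠ α ∧ c ≠ β ∧ d ≠ α ∧ d ≠ β ∧
      ∀ g : G, g • α = α → g • β = β → g • c ≠ d := by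
    intro α β hab
    by_contra h
    push Not at h
    refine hnot ⟨fun u v => ?_⟩
    obtain ⟨g, hg0, hg1⟩ := h2 (a := u 0) (b := u 1) (c := α) (d := β) (u.injective.ne (by decide)) hab
    obtain ⟨k, hk0, hk1⟩ := h2 (a := α) (b := β) (c := v 0) (d := v 1) hab (v.injective.ne (by decide))
    obtain ⟨m, hm0, hm1, hm2⟩ := h (g • u 2) (k⁻¹ • v 2)
      (fun e => (u.injective.ne (show (2 : Fin 3) ≠ 0 by decide)) (MulAction.injective g (e.trans hg0.symm)))
      (fun e => (u.injective.ne (show (2 : Fin 3) ≠ 1 by decide)) (MulAction.injective g (e.trans hg1.symm)))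
      (fun e => (v.injective.ne (show (2 : Fin 3) ≠ 0 by decide)) (by rw [← hk0, ← e, smul_inv_smul]))
      (fun e => (v.injective.ne (show (2 : Fin 3) ≠ 1 by decide)) (by rw [← hk1, ← e, smul_inv_smul]))
    refine ⟨k * (m * g), ?_⟩
    ext i
    show (k * (m * g)) • u i = v i
    rw [mul_smul, mul_smul]
    fin_cases i
    · show k • m • g • u 0 = v 0
      rw [hg0, hm0, hk0]
    · show k • m • g • u 1 = v 1
      rw [hg1, hm1, hk1]
    · show k • m • g • u 2 = v 2
      rw [hm2, smul_inv_smul]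
  let O : Ω → Ω → Ω → Ω → Prop := fun a b c d => ∃ g : G, g • a = a ∧ g • b = b ∧ g • c = d
  have Orefl : ∀ a b c, O a b c c := fun a b c => ⟨1, one_smul _ _, one_smul _ _, one_smul _ _⟩
  have Osymm : ∀ {a b c d}, O a b c d → O a b d c := fun {a b c d} ⟨g, h1, h2, h3⟩ =>
    ⟨g⁻¹, by rw [inv_smul_eq_iff, h1], by rw [inv_smul_eq_iff, h2], by rw [inv_smul_eq_iff, h3]⟩
  have Otrans : ∀ {a b c d f}, O a b c d → O a b d f → O a b c f :=
    fun {a b c d f} ⟨g, h1, h2, h3⟩ ⟨g', h1', h2', h3'⟩ =>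
      ⟨g' * g, by rw [mul_smul, h1, h1'], by rw [mul_smul, h2, h2'], by rw [mul_smul, h3, h3']⟩
  have Oequiv : ∀ (g : G) {a b c d}, O a b c d → O (g • a) (g • b) (g • c) (g • d) :=
    fun g {a b c d} ⟨k, h1, h2, h3⟩ => ⟨g * k * g⁻¹, by simp [mul_smul, h1], by simp [mul_smul, h2],
      by simp [mul_smul, h3]⟩
  have Ofix : ∀ {a b c d}, a ≠ b → c ≠ a → c ≠ b → O a b c d → d ≠ a ∧ d ≠ b :=
    fun {a b c d} _ hca hcb ⟨g, h1, h2, h3⟩ =>
      ⟨fun e => hca (MulAction.injective g (h3.trans (e.trans h1.symm))),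
        fun e => hcb (MulAction.injective g (h3.trans (e.trans h2.symm)))⟩
  let orb : Ω → Ω → Ω → Finset Ω := fun a b c => Finset.univ.filter (O a b c)
  have morb : ∀ {a b c d}, d ∈ orb a b c ↔ O a b c d := fun {a b c d} => by simp [orb]
  have orb_equiv : ∀ (g : G) (a b c : Ω), (orb (g • a) (g • b) (g • c)).card = (orb a b c).card := by
    intro g a b c
    have : orb (g • a) (g • b) (g • c) = (orb a b c).image (g • ·) := by
      ext d
      rw [morb, Finset.mem_image]
      refine ⟨fun h => ⟨g⁻¹ • d, morb.2 ?_, smul_inv_smul g d⟩, ?_⟩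
      · simpa using Oequiv g⁻¹ h
      · rintro ⟨x, hx, rfl⟩; exact Oequiv g (morb.1 hx)
    rw [this, Finset.card_image_of_injective _ (MulAction.injective g)]
  let Sm : Ω → Ω → Finset Ω := fun a b =>
    Finset.univ.filter fun c => c ≠ a ∧ c ≠ b ∧ 2 * (orb a b c).card < p - 2
  let Lg : Ω → Ω → Finset Ω := fun a b =>
    Finset.univ.filter fun c => c ≠ a ∧ c ≠ b ∧ p - 2 < 2 * (orb a b c).card
  have hodd : p % 2 = 1 := by omega
  have hsplit : ∀ a b : Ω, a ≠ b → (∀ x ∈ Sm a b, Sm a b = orb a b x) ∧ (∀ y ∈ Lg a b, Lg a b = orb a b y) ∧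
      (Sm a b).Nonempty ∧ (Lg a b).Nonempty ∧ (Sm a b).card + (Lg a b).card = p - 2 ∧
      (Sm a b).card < (Lg a b).card ∧ (∀ z, z ≠ a → z ≠ b → z ∈ Sm a b ∨ z ∈ Lg a b) := by
    intro a b hab
    obtain ⟨c, d, hca, hcb, hda, hdb, hcd⟩ := htwo a b hab
    have hdisj : Disjoint (orb a b c) (orb a b d) := Finset.disjoint_left.2 fun x h1 h2 => by
      obtain ⟨g, g1, g2, g3⟩ := Otrans (morb.1 h1) (Osymm (morb.1 h2))
      exact hcd g g1 g2 g3
    have hcover : ∀ z, z ≠ a → z ≠ b → z ∈ orb a b c ∨ z ∈ orb a b d := by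
      intro z hza hzb
      obtain ⟨i, j, hij, g, hga, hgb, hg⟩ := at_most_two hΩ hins P hN hab ![c, d, z]
        (fun i => by fin_cases i <;> simp [hca, hda, hza]) (fun i => by fin_cases i <;> simp [hcb, hdb, hzb])
      have hO : O a b (![c, d, z] i) (![c, d, z] j) := ⟨g, hga, hgb, hg⟩
      fin_cases i <;> fin_cases j <;> simp at hij hO
      · exact absurd hO fun ⟨g, g1, g2, g3⟩ => hcd g g1 g2 g3
      · exact Or.inl (morb.2 hO)
      · exact absurd (Osymm hO) fun ⟨g, g1, g2, g3⟩ => hcd g g1 g2 g3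
      · exact Or.inr (morb.2 hO)
      · exact Or.inl (morb.2 (Osymm hO))
      · exact Or.inr (morb.2 (Osymm hO))
    have hunion : orb a b c ∪ orb a b d = (Finset.univ.erase a).erase b := by
      ext z
      simp only [Finset.mem_union, Finset.mem_erase, Finset.mem_univ, and_true]
      refine ⟨fun h => ?_, fun h => hcover z h.2 h.1⟩
      rcases h with h | h
      · exact (Ofix hab hca hcb (morb.1 h)).symm
      · exact (Ofix hab hda hdb (morb.1 h)).symm
    have hsum : (orb a b c).card + (orb a b d).card = p - 2 := by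
      rw [← Finset.card_union_of_disjoint hdisj, hunion, Finset.card_erase_of_mem (by simp [Ne.symm hab]),
        Finset.card_erase_of_mem (Finset.mem_univ a), Finset.card_univ, hcard]
      omega
    have hsame : ∀ {x z}, z ∈ orb a b x → orb a b z = orb a b x := fun {x z} h => by
      ext w
      rw [morb, morb]
      exact ⟨Otrans (morb.1 h), Otrans (Osymm (morb.1 h))⟩
    have key : ∀ x y, x ≠ a → x ≠ b → y ≠ a → y ≠ b →
        (∀ z, z ≠ a → z ≠ b → z ∈ orb a b x ∨ z ∈ orb a b y) →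
        (orb a b x).card + (orb a b y).card = p - 2 → 2 * (orb a b x).card < p - 2 →
        Sm a b = orb a b x ∧ Lg a b = orb a b y := by
      intro x y hxa hxb hya hyb hcov hs hlt
      constructor <;> ext z <;> simp only [Sm, Lg, Finset.mem_filter, Finset.mem_univ, true_and] <;> constructor
      · rintro ⟨hza, hzb, hz⟩
        rcases hcov z hza hzb with h | h
        · exact h
        · rw [hsame h] at hz; omega
      · intro h
        obtain ⟨hza, hzb⟩ := Ofix hab hxa hxb (morb.1 h)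
        exact ⟨hza, hzb, by rw [hsame h]; exact hlt⟩
      · rintro ⟨hza, hzb, hz⟩
        rcases hcov z hza hzb with h | h
        · rw [hsame h] at hz; omega
        · exact h
      · intro h
        obtain ⟨hza, hzb⟩ := Ofix hab hya hyb (morb.1 h)
        exact ⟨hza, hzb, by rw [hsame h]; omega⟩
    obtain ⟨x, y, hxa, hxb, hya, hyb, hcov, hs, hlt⟩ : ∃ x y, x ≠ a ∧ x ≠ b ∧ y ≠ a ∧ y ≠ b ∧
        (∀ z, z ≠ a → z ≠ b → z ∈ orb a b x ∨ z ∈ orb a b y) ∧
        (orb a b x).card + (orb a b y).card = p - 2 ∧ 2 * (orb a b x).card < p - 2 := by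
      by_cases h : 2 * (orb a b c).card < p - 2
      · exact ⟨c, d, hca, hcb, hda, hdb, hcover, hsum, h⟩
      · exact ⟨d, c, hda, hdb, hca, hcb, fun z h1 h2 => (hcover z h1 h2).symm, by omega, by omega⟩
    obtain ⟨hS, hL⟩ := key x y hxa hxb hya hyb hcov hs hlt
    refine ⟨fun z hz => ?_, fun z hz => ?_, ⟨x, hS ▸ morb.2 (Orefl a b x)⟩,
      ⟨y, hL ▸ morb.2 (Orefl a b y)⟩, by rw [hS, hL]; exact hs, by rw [hS, hL]; omega,
      fun z h1 h2 => by rw [hS, hL]; exact hcov z h1 h2⟩
    · rw [hS] at hz ⊢; exact (hsame hz).symm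
    · rw [hL] at hz ⊢; exact (hsame hz).symm
  have mSm : ∀ {a b c}, c ∈ Sm a b → c ≠ a ∧ c ≠ b := fun {a b c} h =>
    ⟨(Finset.mem_filter.1 h).2.1, (Finset.mem_filter.1 h).2.2.1⟩
  have Sm_equiv : ∀ (g : G) (a b : Ω) {c : Ω}, c ∈ Sm a b → g • c ∈ Sm (g • a) (g • b) := by
    intro g a b c h
    obtain ⟨-, h1, h2, h3⟩ := Finset.mem_filter.1 h
    exact Finset.mem_filter.2 ⟨Finset.mem_univ _, fun e => h1 (MulAction.injective g e),
      fun e => h2 (MulAction.injective g e), by rwa [orb_equiv]⟩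
  have SL_disj : ∀ {a b c}, c ∈ Sm a b → c ∉ Lg a b := fun {a b c} h h' => by
    have := (Finset.mem_filter.1 h).2.2.2; have := (Finset.mem_filter.1 h').2.2.2; omega
  obtain ⟨a₀, b₀, hab₀⟩ := Fintype.exists_pair_of_one_lt_card (α := Ω) (by omega)
  set m := (Sm a₀ b₀).card with hm
  have hmc : ∀ {a b : Ω}, a ≠ b → (Sm a b).card = m := by
    intro a b hab
    have hle : ∀ {a b c d : Ω}, a ≠ b → c ≠ d → (Sm a b).card ≤ (Sm c d).card := fun {a b c d} hab hcd => by
      obtain ⟨g, h1, h2'⟩ := h2 hab hcd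
      exact Finset.card_le_card_of_injOn (g • ·) (fun z hz => by
        have := Sm_equiv g a b hz; rwa [h1, h2'] at this) fun x _ y _ e => MulAction.injective g e
    exact le_antisymm (hle hab hab₀) (hle hab₀ hab)
  have hlc : ∀ {a b : Ω}, a ≠ b → (Lg a b).card = p - 2 - m := fun {a b} hab => by
    have := (hsplit a b hab).2.2.2.2.1; rw [hmc hab] at this; omega
  have hml : m < p - 2 - m := by
    have := (hsplit _ _ hab₀).2.2.2.2.2.1; rwa [hmc hab₀, hlc hab₀] at this
  have hm0 : 0 < m := Finset.card_pos.2 (hsplit _ _ hab₀).2.2.1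
  have hcop : Nat.Coprime (p - 2 - m) m := by
    have hq2 : p - 2 = q := by omega
    rw [hq2, Nat.coprime_iff_gcd_eq_one]
    have h1 : Nat.gcd (q - m) m ∣ q := by
      have := Nat.dvd_add (Nat.gcd_dvd_left (q - m) m) (Nat.gcd_dvd_right (q - m) m)
      rwa [Nat.sub_add_cancel (by omega)] at this
    refine (hq.eq_one_or_self_of_dvd _ h1).resolve_right fun e => ?_
    have := Nat.le_of_dvd hm0 (e ▸ Nat.gcd_dvd_right (q - m) m)
    omega
  -- the short orbit relation is symmetric
  have hsymm : ∀ {a b x : Ω}, a ≠ b → x ∈ Sm a b → b ∈ Sm a x := by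
    intro a b x hab hx
    have hxa : x ≠ a := (mSm hx).1
    by_contra hb
    let D : Ω → Finset Ω := fun z => (Finset.univ.erase a).filter fun c => z ∈ Sm a c
    have hmove : ∀ {z w : Ω}, z ≠ a → w ≠ a → (D z).card ≤ (D w).card := fun {z w} hz hw => by
      obtain ⟨g, h1, h2'⟩ := h2 hz.symm hw.symm
      refine Finset.card_le_card_of_injOn (g • ·) (fun c hc => ?_) fun x _ y _ e => MulAction.injective g e
      obtain ⟨hca, hc'⟩ := Finset.mem_filter.1 hc
      have := Sm_equiv g a c hc'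
      rw [h1, h2'] at this
      refine Finset.mem_filter.2 ⟨Finset.mem_erase.2 ⟨fun e => (Finset.mem_erase.1 hca).1 ?_, Finset.mem_univ _⟩, this⟩
      exact MulAction.injective g (e.trans h1.symm)
    have hDc : (D x).card = m := by
      have h : ∑ c ∈ Finset.univ.erase a, ((Finset.univ.erase a).filter fun z => z ∈ Sm a c).card =
          ∑ z ∈ Finset.univ.erase a, (D z).card := Finset.sum_card_bipartiteAbove_eq_sum_card_bipartiteBelow
        (s := Finset.univ.erase a) (t := Finset.univ.erase a) (fun (c z : Ω) => z ∈ Sm a c)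
      rw [Finset.sum_const_nat (m := m) (fun c hc => ?_), Finset.sum_const_nat (m := (D x).card) (fun z hz =>
        le_antisymm (hmove (Finset.mem_erase.1 hz).1 hxa) (hmove hxa (Finset.mem_erase.1 hz).1))] at h
      · exact (Nat.eq_of_mul_eq_mul_left (by
          rw [Finset.card_erase_of_mem (Finset.mem_univ a), Finset.card_univ, hcard]; omega) h).symm
      · rw [← hmc (Finset.mem_erase.1 hc).1.symm]
        congr 1
        ext z
        simp only [Finset.mem_filter, Finset.mem_erase, Finset.mem_univ, and_true]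
        exact ⟨fun h => h.2, fun h => ⟨(mSm h).1, h⟩⟩
    have hbD : b ∈ D x := Finset.mem_filter.2 ⟨Finset.mem_erase.2 ⟨hab.symm, Finset.mem_univ _⟩, hx⟩
    have hbL : b ∈ Lg a x := ((hsplit a x hxa.symm).2.2.2.2.2.2 b hab.symm (mSm hx).2.symm).resolve_left hb
    have hsub : Lg a x ⊆ D x := by
      rw [(hsplit a x hxa.symm).2.1 b hbL]
      intro c hc
      obtain ⟨g, hga, hgx, hgc⟩ := morb.1 hc
      have := Sm_equiv g a b hx
      rw [hga, hgx, hgc] at this
      refine Finset.mem_filter.2 ⟨Finset.mem_erase.2 ⟨fun e => hab ?_, Finset.mem_univ _⟩, this⟩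
      exact MulAction.injective g (hga.trans (hgc.trans e).symm)
    have := Finset.card_le_card hsub
    rw [hDc, hlc hxa.symm] at this
    omega
  -- long orbits avoid the short orbit of a short pair
  have horb : ∀ (a b z : Ω), Set.ncard (orbit ↥(stabilizer G a ⊓ stabilizer G b) z) = (orb a b z).card := by
    intro a b z
    rw [← Set.ncard_coe_finset]
    congr 1
    ext w
    rw [Finset.mem_coe, morb]
    constructor
    · rintro ⟨⟨g, hg⟩, rfl⟩; exact ⟨g, hg.1, hg.2, rfl⟩
    · rintro ⟨g, h1, h2, h3⟩; exact ⟨⟨g, h1, h2⟩, h3⟩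
  have hsub : ∀ {a b x : Ω}, a ≠ b → x ∈ Sm a b → Sm a x ⊆ insert b (Sm a b) := by
    intro a b x hab hx c hc
    rw [Finset.mem_insert]
    by_contra hcon
    push Not at hcon
    obtain ⟨hca, hcx⟩ := mSm hc
    have hcL : c ∈ Lg a b := ((hsplit a b hab).2.2.2.2.2.2 c hca hcon.1).resolve_left hcon.2
    set H := stabilizer G a ⊓ stabilizer G b with hH
    have hxm : (stabilizer G x).relIndex H = m := by
      rw [relIndex_stabilizer, horb, ← (hsplit a b hab).1 x hx, hmc hab]
    have hcl : (stabilizer G c).relIndex H = p - 2 - m := by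
      rw [relIndex_stabilizer, horb, ← (hsplit a b hab).2.1 c hcL, hlc hab]
    set r := (stabilizer G c).relIndex (H ⊓ stabilizer G x) with hr
    have e1 : ((H ⊓ stabilizer G x) ⊓ stabilizer G c).relIndex H = r * m := by
      rw [← Subgroup.relIndex_mul_relIndex _ (H ⊓ stabilizer G x) H inf_le_left inf_le_left,
        Subgroup.inf_relIndex_left, Subgroup.inf_relIndex_left, hxm]
    have e2 : ((H ⊓ stabilizer G x) ⊓ stabilizer G c).relIndex H =
        (stabilizer G x).relIndex (H ⊓ stabilizer G c) * (p - 2 - m) := by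
      rw [show (H ⊓ stabilizer G x) ⊓ stabilizer G c = (H ⊓ stabilizer G c) ⊓ stabilizer G x from
          inf_right_comm _ _ _,
        ← Subgroup.relIndex_mul_relIndex _ (H ⊓ stabilizer G c) H inf_le_left inf_le_left,
        Subgroup.inf_relIndex_left, Subgroup.inf_relIndex_left, hcl]
    have hdvd : p - 2 - m ∣ r := hcop.dvd_of_dvd_mul_right ⟨_, (e1.symm.trans e2).trans (mul_comm _ _)⟩
    have horbit : orbit ↥(H ⊓ stabilizer G x) c ⊆ ↑(Lg a b ∩ Sm a x) := by
      rintro w ⟨⟨g, ⟨hga, hgb⟩, hgx⟩, rfl⟩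
      rw [Finset.mem_coe, Finset.mem_inter]
      refine ⟨?_, ?_⟩
      · rw [(hsplit a b hab).2.1 c hcL, morb]; exact ⟨g, hga, hgb, rfl⟩
      · have := Sm_equiv g a x hc
        rw [show g • a = a from hga, show g • x = x from hgx] at this
        exact this
    have hr' : r = Set.ncard (orbit ↥(H ⊓ stabilizer G x) c) := relIndex_stabilizer _ _
    have hrle : r ≤ (Lg a b ∩ Sm a x).card := by
      rw [hr', ← Set.ncard_coe_finset]
      exact Set.ncard_le_ncard horbit (Set.toFinite _)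
    have hr0 : 0 < r := by
      rw [hr']; exact (Set.ncard_pos (Set.toFinite _)).2 ⟨c, mem_orbit_self c⟩
    have := Nat.le_of_dvd hr0 hdvd
    have h5 := hrle.trans (Finset.card_le_card Finset.inter_subset_right)
    rw [hmc (mSm hx).1.symm] at h5
    omega
  -- lines
  let L : Ω → Ω → Finset Ω := fun a b => insert a (insert b (Sm a b))
  have hLc : ∀ {a b : Ω}, a ≠ b → (L a b).card = m + 2 := by
    intro a b hab
    simp only [L]
    rw [Finset.card_insert_of_notMem (by
        rw [Finset.mem_insert]; exact fun h => h.elim hab fun h => (mSm h).1 rfl),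
      Finset.card_insert_of_notMem (fun h => (mSm h).2 rfl), hmc hab]
  have hSswap : ∀ {a b : Ω}, a ≠ b → Sm a b = Sm b a := by
    intro a b hab
    ext c
    simp only [Sm, Finset.mem_filter, Finset.mem_univ, true_and]
    have : orb a b c = orb b a c := by
      ext d; rw [morb, morb]; exact ⟨fun ⟨g, h1, h2, h3⟩ => ⟨g, h2, h1, h3⟩, fun ⟨g, h1, h2, h3⟩ => ⟨g, h2, h1, h3⟩⟩
    rw [this]; tauto
  have hLswap : ∀ {a b : Ω}, a ≠ b → L a b = L b a := fun {a b} hab => by
    simp only [L]; rw [hSswap hab, Finset.insert_comm]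
  have hLmem : ∀ {a b x : Ω}, a ≠ b → x ∈ L a b → x ≠ a → L a x = L a b := by
    intro a b x hab hx hxa
    simp only [L, Finset.mem_insert] at hx
    rcases hx with h | rfl | h
    · exact absurd h hxa
    · rfl
    · refine Finset.eq_of_subset_of_card_le ?_ (by rw [hLc hxa.symm, hLc hab])
      intro z hz
      simp only [L, Finset.mem_insert] at hz ⊢
      rcases hz with e | e | hz
      · exact Or.inl e
      · exact Or.inr (Or.inr (e ▸ h))
      · exact Or.inr (Finset.mem_insert.1 (hsub hab h hz))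
  have hLall : ∀ {a b u v : Ω}, a ≠ b → u ∈ L a b → v ∈ L a b → u ≠ v → L u v = L a b := by
    intro a b u v hab hu hv huv
    by_cases hua : u = a
    · subst hua; exact hLmem hab hv huv.symm
    have h1 : L u a = L a b := by rw [hLswap hua]; exact hLmem hab hu hua
    rw [← h1] at hv ⊢
    exact hLmem hua hv huv.symm
  have hLequiv : ∀ (g : G) {a b x : Ω}, x ∈ L a b → g • x ∈ L (g • a) (g • b) := fun g {a b x} h => by
    simp only [L, Finset.mem_insert] at h ⊢
    rcases h with rfl | rfl | h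
    · exact Or.inl rfl
    · exact Or.inr (Or.inl rfl)
    · exact Or.inr (Or.inr (Sm_equiv g a b h))
  -- they have three points
  obtain ⟨C⟩ := exists_coord hΩ P hN
  have haff : ∀ α : ZMod p, IsSquare α → α ≠ 0 → ∀ β : ZMod p, ∃ g : G, ∀ z, C.e (g • z) = α * C.e z + β := by
    rintro α ⟨r, rfl⟩ hα β
    obtain ⟨t, ht⟩ := C.sq (Units.mk0 r fun e => hα (by simp [e]))
    refine ⟨C.s ^ β.val * t, fun z => ?_⟩
    rw [mul_smul, pow_translate, ZMod.natCast_zmod_val, ht, Units.val_mk0, sq]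
  have hm1 : m = 1 := by
    have h3 : ((L a₀ b₀).image C.e).card ≤ 3 := by
      refine card_le_three _ (a := C.e a₀) (b := C.e b₀) ?_ (fun e => hab₀ (C.e.injective e)) ?_
      · rw [Finset.card_image_of_injective _ C.e.injective, hLc hab₀]; omega
      intro u' hu' v' hv' huv'
      obtain ⟨u, hu, rfl⟩ := Finset.mem_image.1 hu'
      obtain ⟨v, hv, rfl⟩ := Finset.mem_image.1 hv'
      have huv : u ≠ v := fun e => huv' (by rw [e])
      set d := C.e b₀ - C.e a₀ with hd
      have hd0 : d ≠ 0 := sub_ne_zero.2 fun e => hab₀ (C.e.injective e).symm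
      set δ := (C.e v - C.e u) / d with hδ
      have hδd : δ * d = C.e v - C.e u := div_mul_cancel₀ _ hd0
      have hδ0 : δ ≠ 0 := div_ne_zero (sub_ne_zero.2 (Ne.symm huv')) hd0
      have finish : ∀ g : G, ∀ α β : ZMod p, α ≠ 0 → (∀ z, C.e (g • z) = α * C.e z + β) →
          ((α * C.e a₀ + β = C.e u ∧ α * C.e b₀ + β = C.e v) ∨
            (α * C.e a₀ + β = C.e v ∧ α * C.e b₀ + β = C.e u)) →
          ∃ α β : ZMod p, α ≠ 0 ∧ (∀ x ∈ (L a₀ b₀).image C.e, α * x + β ∈ (L a₀ b₀).image C.e) ∧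
          ((α * C.e a₀ + β = C.e u ∧ α * C.e b₀ + β = C.e v) ∨
            (α * C.e a₀ + β = C.e v ∧ α * C.e b₀ + β = C.e u)) := by
        intro g α β hα hg h
        refine ⟨α, β, hα, fun x hx => ?_, h⟩
        obtain ⟨z, hz, rfl⟩ := Finset.mem_image.1 hx
        refine Finset.mem_image.2 ⟨g • z, ?_, hg z⟩
        have hgz := hLequiv g hz
        rcases h with ⟨h1, h2⟩ | ⟨h1, h2⟩
        · rw [C.e.injective ((hg a₀).trans h1), C.e.injective ((hg b₀).trans h2), hLall hab₀ hu hv huv] at hgz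
          exact hgz
        · rw [C.e.injective ((hg a₀).trans h1), C.e.injective ((hg b₀).trans h2),
            hLall hab₀ hv hu huv.symm] at hgz
          exact hgz
      by_cases hs : IsSquare δ
      · obtain ⟨g, hg⟩ := haff δ hs hδ0 (C.e u - δ * C.e a₀)
        exact finish g _ _ hδ0 hg (Or.inl ⟨by ring, by rw [hd] at hδd; linear_combination hδd⟩)
      · have hs' : IsSquare (-δ) := by
          have hF : ringChar (ZMod p) ≠ 2 := by rw [ZMod.ringChar_zmod_n]; omega
          have hneg : quadraticChar (ZMod p) (-1) = -1 := by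
            rw [quadraticChar_neg_one_iff_not_isSquare, ZMod.exists_sq_eq_neg_one_iff]; omega
          refine (quadraticChar_one_iff_isSquare (neg_ne_zero.2 hδ0)).1 ?_
          rw [neg_eq_neg_one_mul, map_mul, hneg, (quadraticChar_neg_one_iff_not_isSquare).2 hs]
          norm_num
        obtain ⟨g, hg⟩ := haff (-δ) hs' (neg_ne_zero.2 hδ0) (C.e v - (-δ) * C.e a₀)
        exact finish g _ _ (neg_ne_zero.2 hδ0) hg
          (Or.inr ⟨by ring, by rw [hd] at hδd; linear_combination -hδd⟩)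
    rw [Finset.card_image_of_injective _ C.e.injective, hLc hab₀] at h3
    omega
  -- the triple system
  have hSm1 : ∀ {a b : Ω}, a ≠ b → ∃ c, Sm a b = {c} := fun {a b} hab =>
    Finset.card_eq_one.1 (by rw [hmc hab, hm1])
  let op : Ω → Ω → Ω := fun a b => if h : a ≠ b then (hSm1 h).choose else a
  have hop : ∀ {a b : Ω}, a ≠ b → Sm a b = {op a b} := fun {a b} hab => by
    simp only [op, dif_pos hab]; exact (hSm1 hab).choose_spec
  have hopmem : ∀ {a b : Ω}, a ≠ b → op a b ∈ Sm a b := fun hab => by rw [hop hab]; simp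
  have hSt : IsSteiner op := by
    refine ⟨fun x => by simp [op], fun x y => ?_, fun x y h => (mSm (hopmem h)).1, fun x y => ?_⟩
    · by_cases h : x = y
      · rw [h]
      · have := hop h; rw [hSswap h, hop (Ne.symm h)] at this
        exact (Finset.singleton_inj.1 this).symm
    · by_cases h : x = y
      · subst h; simp [op]
      · have hx : x ≠ op x y := (mSm (hopmem h)).1.symm
        have := hsymm h (hopmem h)
        rw [hop hx, Finset.mem_singleton] at this
        exact this.symm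
  have hopg : ∀ (g : G) (a b : Ω), g • op a b = op (g • a) (g • b) := by
    intro g a b
    by_cases h : a = b
    · subst h; rw [hSt.self, hSt.self]
    · have h' : g • a ≠ g • b := fun e => h (MulAction.injective g e)
      have := Sm_equiv g a b (hopmem h)
      rwa [hop h', Finset.mem_singleton] at this
  have htri : ∀ {a b d : Ω}, Tri op a b d → d ∈ Lg a b := fun {a b d} h =>
    ((hsplit a b h.1).2.2.2.2.2.2 d h.2.1 h.2.2.1).resolve_left fun hd => by
      rw [hop h.1, Finset.mem_singleton] at hd; exact h.2.2.2 hd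
  have htt : ∀ {a b d a' b' d' : Ω}, Tri op a b d → Tri op a' b' d' →
      ∃ g : G, g • a = a' ∧ g • b = b' ∧ g • d = d' := by
    intro a b d a' b' d' h h'
    obtain ⟨g, hga, hgb⟩ := h2 h.1 h'.1
    have hgd : Tri op a' b' (g • d) := by
      refine ⟨h'.1, fun e => h.2.1 ?_, fun e => h.2.2.1 ?_, fun e => h.2.2.2 ?_⟩
      · exact MulAction.injective g (e.trans hga.symm)
      · exact MulAction.injective g (e.trans hgb.symm)
      · refine MulAction.injective g ?_
        show g • d = g • op a b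
        rw [hopg, hga, hgb]; exact e
    have hd' := htri h'
    rw [(hsplit a' b' h'.1).2.1 _ (htri hgd), morb] at hd'
    obtain ⟨k, hka, hkb, hkd⟩ := hd'
    exact ⟨k * g, by rw [mul_smul, hga, hka], by rw [mul_smul, hgb, hkb], by rw [mul_smul, hkd]⟩
  obtain ⟨d₀, hd₀⟩ := (hsplit a₀ b₀ hab₀).2.2.2.1
  have hT₀ : Tri op a₀ b₀ d₀ := ⟨hab₀, (Finset.mem_filter.1 hd₀).2.1, (Finset.mem_filter.1 hd₀).2.2.1,
    fun e => SL_disj (hopmem hab₀) (e ▸ hd₀)⟩
  by_cases hall : ∀ a b d, Tri op a b d → op b (op a d) = op (op a b) d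
  · refine Binary.false_of_all hp7 hSt hall C.e (MulAction.toPerm C.s) C.hs (hopg C.s) fun c => ?_
    obtain ⟨t, ht⟩ := C.sq c
    exact ⟨MulAction.toPerm t, ht, hopg t⟩
  push Not at hall
  obtain ⟨a, b, d, hT, hne⟩ := hall
  have hnone : ∀ a' b' d', Tri op a' b' d' → op b' (op a' d') ≠ op (op a' b') d' := by
    intro a' b' d' h' e
    obtain ⟨g, g1, g2, g3⟩ := htt h' hT
    exact hne (by rw [← g1, ← g2, ← g3, ← hopg, ← hopg, ← hopg, ← hopg, e])
  let St : Ω → Ω → Ω → Subgroup G := fun u v w => stabilizer G u ⊓ stabilizer G v ⊓ stabilizer G w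
  have mSt : ∀ {u v w : Ω} {g : G}, g ∈ St u v w ↔ g • u = u ∧ g • v = v ∧ g • w = w := fun {u v w g} => by
    simp [St, Subgroup.mem_inf, mem_stabilizer_iff, and_assoc]
  let X : Set Ω := {x | ∀ g ∈ St a b d, g • x = x}
  have hXmem : a ∈ X ∧ b ∈ X ∧ d ∈ X :=
    ⟨fun g hg => (mSt.1 hg).1, fun g hg => (mSt.1 hg).2.1, fun g hg => (mSt.1 hg).2.2⟩
  have hXop : ∀ {x y}, x ∈ X → y ∈ X → op x y ∈ X := fun {x y} hx hy g hg => by
    rw [hopg, hx g hg, hy g hg]
  have hStc : ∀ {u v w}, u ∈ X → v ∈ X → w ∈ X → Tri op u v w → St u v w = St a b d := by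
    intro u v w hu hv hw h
    symm
    refine Subgroup.eq_of_le_of_card_ge (fun g hg => mSt.2 ⟨hu g hg, hv g hg, hw g hg⟩) ?_
    obtain ⟨k, k1, k2, k3⟩ := htt h hT
    refine Nat.card_le_card_of_injective (fun g : St u v w => (⟨k * g * k⁻¹, mSt.2 ?_⟩ : St a b d))
      fun g g' e => Subtype.ext (by simpa using congrArg Subtype.val e)
    obtain ⟨g, hg⟩ := g
    obtain ⟨g1, g2, g3⟩ := mSt.1 hg
    simp only [← k1, ← k2, ← k3, mul_smul, inv_smul_smul, g1, g2, g3, and_self]
  have hXpres : ∀ {u v w}, u ∈ X → v ∈ X → w ∈ X → Tri op u v w →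
      ∀ g : G, g • a = u → g • b = v → g • d = w → ∀ x, g • x ∈ X ↔ x ∈ X := by
    intro u v w hu hv hw h g g1 g2 g3 x
    refine ⟨fun hx k hk => ?_, fun hx k hk => ?_⟩
    · have hk' : g * k * g⁻¹ ∈ St a b d := by
        rw [← hStc hu hv hw h, mSt]
        obtain ⟨k1, k2, k3⟩ := mSt.1 hk
        simp only [← g1, ← g2, ← g3, mul_smul, inv_smul_smul, k1, k2, k3, and_self]
      have := hx _ hk'
      rw [mul_smul, mul_smul, inv_smul_smul] at this
      exact MulAction.injective g this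
    · have hk' : g⁻¹ * k * g ∈ St a b d := by
        rw [← hStc hu hv hw h] at hk
        obtain ⟨k1, k2, k3⟩ := mSt.1 hk
        rw [mSt]
        simp only [mul_smul, g1, g2, g3, k1, k2, k3]
        simp [← g1, ← g2, ← g3]
      have := hx _ hk'
      rw [mul_smul, mul_smul, inv_smul_eq_iff] at this
      exact this
  let Nst : Subgroup G :=
    { carrier := {g | ∀ x, g • x ∈ X ↔ x ∈ X}
      one_mem' := fun x => by rw [one_smul]
      mul_mem' := fun {g g'} h h' x => by rw [mul_smul, h, h']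
      inv_mem' := fun {g} h x => by rw [← h (g⁻¹ • x), smul_inv_smul] }
  let ρ : Nst →* Equiv.Perm X :=
    { toFun := fun g => (MulAction.toPerm (g : G)).subtypePerm g.2
      map_one' := by ext x; simp
      map_mul' := fun g g' => by
        ext x
        show ((g : G) * g') • (x : Ω) = (g : G) • (g' : G) • (x : Ω)
        rw [mul_smul] }
  let opX : X → X → X := fun x y => ⟨op x y, hXop x.2 y.2⟩
  have hStX : IsSteiner opX := ⟨fun x => Subtype.ext (hSt.self _), fun x y => Subtype.ext (hSt.comm _ _),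
    fun x y h e => hSt.ne _ _ (fun e' => h (Subtype.ext e')) (congrArg Subtype.val e),
    fun x y => Subtype.ext (hSt.cancel _ _)⟩
  have hTX : ∀ {u v w : X}, Tri opX u v w → Tri op (u : Ω) v w := fun {u v w} h =>
    ⟨fun e => h.1 (Subtype.ext e), fun e => h.2.1 (Subtype.ext e), fun e => h.2.2.1 (Subtype.ext e),
      fun e => h.2.2.2 (Subtype.ext e)⟩
  have h3 : ¬ 3 ∣ Nat.card X - 3 := by
    set K := stabilizer G a ⊓ stabilizer G b with hK
    have hsubK : St a b d ≤ K ⊓ Nst := fun g hg => by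
      obtain ⟨g1, g2, g3⟩ := mSt.1 hg
      exact ⟨⟨g1, g2⟩, hXpres hXmem.1 hXmem.2.1 hXmem.2.2 hT g g1 g2 g3⟩
    have e1 : (St a b d).relIndex K = p - 3 := by
      show ((stabilizer G a ⊓ stabilizer G b) ⊓ stabilizer G d).relIndex _ = _
      rw [Subgroup.inf_relIndex_left, relIndex_stabilizer, horb, ← (hsplit a b hT.1).2.1 d (htri hT), hlc hT.1, hm1]
      omega
    have e2 : (St a b d).relIndex (K ⊓ Nst) = Nat.card X - 3 := by
      have : (St a b d).relIndex (K ⊓ Nst) = (stabilizer G d).relIndex (K ⊓ Nst) := by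
        rw [← Subgroup.inf_relIndex_left (K ⊓ Nst) (stabilizer G d)]
        congr 1
        refine le_antisymm (le_inf hsubK fun g hg => (mSt.1 hg).2.2) fun g hg => mSt.2 ?_
        exact ⟨hg.1.1.1, hg.1.1.2, hg.2⟩
      rw [this, relIndex_stabilizer]
      have horbX : orbit ↥(K ⊓ Nst) d = X \ {a, b, op a b} := by
        ext z
        simp only [Set.mem_sdiff, Set.mem_insert_iff, Set.mem_singleton_iff, not_or]
        constructor
        · rintro ⟨⟨g, ⟨g1, g2⟩, g3⟩, rfl⟩
          refine ⟨(g3 d).2 hXmem.2.2, fun e => hT.2.1 ?_, fun e => hT.2.2.1 ?_, fun e => hT.2.2.2 ?_⟩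
          · exact MulAction.injective g (e.trans (mem_stabilizer_iff.1 g1).symm)
          · exact MulAction.injective g (e.trans (mem_stabilizer_iff.1 g2).symm)
          · refine MulAction.injective g ?_
            show g • d = g • op a b
            rw [hopg, mem_stabilizer_iff.1 g1, mem_stabilizer_iff.1 g2]; exact e
        · rintro ⟨hz, hza, hzb, hzc⟩
          obtain ⟨g, g1, g2, g3⟩ := htt hT (⟨hT.1, hza, hzb, hzc⟩ : Tri op a b z)
          exact ⟨⟨g, ⟨⟨g1, g2⟩, hXpres hXmem.1 hXmem.2.1 hz ⟨hT.1, hza, hzb, hzc⟩ g g1 g2 g3⟩⟩, g3⟩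
      rw [horbX, Set.ncard_sdiff (by
        intro z hz
        rcases hz with rfl | rfl | rfl
        · exact hXmem.1
        · exact hXmem.2.1
        · exact hXop hXmem.1 hXmem.2.1) (Set.toFinite _), Nat.card_coe_set_eq]
      congr 1
      rw [Set.ncard_insert_of_notMem (by simp [hT.1, (hSt.ne a b hT.1).symm]),
        Set.ncard_pair (by rw [hSt.comm]; exact (hSt.ne b a hT.1.symm).symm)]
    intro h
    have hd : Nat.card X - 3 ∣ p - 3 := by
      rw [← e1, ← e2]
      exact ⟨_, (Subgroup.relIndex_mul_relIndex _ _ _ hsubK inf_le_left).symm⟩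
    have h' : 3 ∣ p := by have := h.trans hd; omega
    exact absurd ((Nat.prime_dvd_prime_iff_eq Nat.prime_three hp').1 h') (by omega)
  obtain ⟨u, v, w, hu, he⟩ := Triples.exists_pasch hStX ρ.range
    (by
      rintro _ ⟨⟨g, hg⟩, rfl⟩ x y
      exact Subtype.ext (hopg g x y))
    (by
      intro u v w u' v' w' h h'
      obtain ⟨g, g1, g2, g3⟩ := htt hT (hTX h)
      obtain ⟨g', g1', g2', g3'⟩ := htt hT (hTX h')
      have hgN : g ∈ Nst := hXpres u.2 v.2 w.2 (hTX h) g g1 g2 g3
      have hgN' : g' ∈ Nst := hXpres u'.2 v'.2 w'.2 (hTX h') g' g1' g2' g3'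
      refine ⟨_, ⟨⟨g' * g⁻¹, Nst.mul_mem hgN' (Nst.inv_mem hgN)⟩, rfl⟩, ?_, ?_, ?_⟩ <;> apply Subtype.ext
      · show (g' * g⁻¹) • (u : Ω) = u'
        rw [mul_smul, ← g1, inv_smul_smul, g1']
      · show (g' * g⁻¹) • (v : Ω) = v'
        rw [mul_smul, ← g2, inv_smul_smul, g2']
      · show (g' * g⁻¹) • (w : Ω) = w'
        rw [mul_smul, ← g3, inv_smul_smul, g3'])
    (by
      rintro _ ⟨⟨g, hg⟩, rfl⟩ u v w h h1 h2 h3
      have hgH : g ∈ St a b d := by
        rw [← hStc u.2 v.2 w.2 (hTX h), mSt]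
        exact ⟨congrArg Subtype.val h1, congrArg Subtype.val h2, congrArg Subtype.val h3⟩
      exact Equiv.ext fun x => Subtype.ext (x.2 g hgH))
    h3 ⟨⟨a, hXmem.1⟩, ⟨b, hXmem.2.1⟩, ⟨d, hXmem.2.2⟩, fun e => hT.1 (congrArg Subtype.val e),
      fun e => hT.2.1 (congrArg Subtype.val e), fun e => hT.2.2.1 (congrArg Subtype.val e),
      fun e => hT.2.2.2 (congrArg Subtype.val e)⟩
  exact hnone _ _ _ (hTX hu) (congrArg Subtype.val he)

/-- Even Sylow normaliser. -/
theorem three_of_even (hΩ : Nat.card Ω = p) [IsPretransitive G Ω] (hins : ¬ Group.IsSolvable G)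
    (P : Sylow p G) (heven : Even (Nat.card ↥(Subgroup.normalizer ((P : Subgroup G) : Set G)))) :
    IsMultiplyPretransitive G Ω 3 := by
  classical
  letI := Fintype.ofFinite Ω
  have hcard : Fintype.card Ω = p := by rw [← Nat.card_eq_fintype_card, hΩ]
  let φ := MulAction.toPermHom G Ω
  have hinj : Function.Injective φ.rangeRestrict :=
    fun a b h => MulAction.toPerm_injective (congrArg Subtype.val h)
  haveI : IsPretransitive φ.range Ω := ⟨fun x y => by
    obtain ⟨g, hg⟩ := exists_smul_eq G x y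
    exact ⟨⟨φ g, g, rfl⟩, hg⟩⟩
  have hins' : ¬ Group.IsSolvable φ.range := fun h =>
    hins (Group.isSolvable_of_isSolvable_injective hinj)
  let ι : G ≃* φ.range := MulEquiv.ofBijective φ.rangeRestrict ⟨hinj, φ.rangeRestrict_surjective⟩
  let Q : Sylow p φ.range := P.mapSurjective (f := ι.toMonoidHom) ι.surjective
  have heven' : Even (Nat.card ↥(Subgroup.normalizer ((Q : Subgroup φ.range) : Set φ.range))) := by
    have : Subgroup.normalizer (((Q : Subgroup φ.range)) : Set φ.range) =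
        (Subgroup.normalizer ((P : Subgroup G) : Set G)).map ι.toMonoidHom := by
      rw [show (Q : Subgroup φ.range) = (P : Subgroup G).map ι.toMonoidHom from rfl]
      exact (Subgroup.map_normalizer_eq_of_bijective _ (f := ι.toMonoidHom) ι.bijective).symm
    rw [this, Subgroup.card_map_of_injective (f := ι.toMonoidHom) ι.injective]
    exact heven
  haveI h3 := Cfsg.Agent.S0676.result hcard φ.range hins' Q heven'
  refine ⟨fun u v => ?_⟩
  obtain ⟨⟨_, g, rfl⟩, hg⟩ := exists_smul_eq φ.range u v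
  refine ⟨g, ?_⟩
  rw [← hg]
  rfl

/-- Prime degree `q + 2` with half Sylow normaliser. -/
theorem three_transitive (hΩ : Nat.card Ω = p) [IsPretransitive G Ω] (hins : ¬ Group.IsSolvable G)
    (P : Sylow p G) (hN : 2 * Nat.card ↥(Subgroup.normalizer ((P : Subgroup G) : Set G)) = p * (p - 1))
    {q : ℕ} (hq : q.Prime) (hq5 : 5 < q) (hpq : p = q + 2) :
    IsMultiplyPretransitive G Ω 3 := by
  have hodd : p % 2 = 1 := Nat.odd_iff.1 (hp.out.odd_of_ne_two (by omega))
  rcases (show p % 4 = 1 ∨ p % 4 = 3 by omega) with h | h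
  · refine three_of_even hΩ hins P ?_
    have h4 : 4 ∣ p - 1 := by omega
    obtain ⟨k, hk⟩ := h4
    rw [hk] at hN
    refine ⟨p * k, ?_⟩
    nlinarith [hN]
  · exact three_of_mod_three hΩ hins P hN h (by omega) hq hpq

end CfsgLib.PGroup.TwinPrime.Linear
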