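import Mathlib

/-!
Steiner triple systems with a sharply triangle transitive group.
-/

set_option autoImplicit false
set_option linter.unusedSectionVars false

namespace CfsgLib.PGroup.TwinPrime.Triples

variable {S : Type*}

/-- The axioms of the operation of a Steiner triple system. -/
structure IsSteiner (op : S → S → S) : Prop where
  self : ∀ x, op x x = x
  comm : ∀ x y, op x y = op y x
  ne : ∀ x y, x ≠ y → op x y ≠ x
  cancel : ∀ x y, op x (op x y) = y

/-- Three points, the third one off the line of the first two. -/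
def Tri (op : S → S → S) (a b d : S) : Prop := a ≠ b ∧ d ≠ a ∧ d ≠ b ∧ d ≠ op a b

variable {op : S → S → S} (hS : IsSteiner op)

include hS

theorem left_inj {x y z : S} (h : op x y = op x z) : y = z := by
  rw [← hS.cancel x y, h, hS.cancel]

theorem odd_card [Finite S] (a : S) : Odd (Nat.card S) := by
  classical
  letI := Fintype.ofFinite S
  haveI : Fact (Nat.Prime 2) := ⟨Nat.prime_two⟩
  let σ : Equiv.Perm S := ⟨op a, op a, hS.cancel a, hS.cancel a⟩
  have hσ : σ ^ (2 ^ 1) = 1 := Equiv.ext fun x => by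
    simp [pow_two, σ, hS.cancel]
  have hfix : Finset.univ.filter (fun x => σ x = x) = {a} := by
    ext x
    simp only [Finset.mem_filter, Finset.mem_univ, true_and, Finset.mem_singleton]
    refine ⟨fun h => ?_, fun h => by rw [h]; exact hS.self a⟩
    by_contra hx
    exact hS.ne x a hx (by rw [hS.comm]; exact h)
  have h := Equiv.Perm.card_compl_support_modEq hσ
  have hs : σ.supportᶜ = {a} := by
    rw [← hfix]; ext x; simp
  rw [hs, Finset.card_singleton] at h
  rw [Nat.card_eq_fintype_card, Nat.odd_iff]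
  exact h.symm

set_option maxHeartbeats 1000000 in
/-- A sharply triangle transitive group of automorphisms forces a Pasch configuration, unless three
divides the number of points. -/
theorem exists_pasch [Finite S] (A : Subgroup (Equiv.Perm S))
    (haut : ∀ g ∈ A, ∀ x y, g (op x y) = op (g x) (g y))
    (htrans : ∀ a b d a' b' d', Tri op a b d → Tri op a' b' d' → ∃ g ∈ A, g a = a' ∧ g b = b' ∧ g d = d')
    (hsharp : ∀ g ∈ A, ∀ a b d, Tri op a b d → g a = a → g b = b → g d = d → g = 1)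
    (h3 : ¬ 3 ∣ Nat.card S - 3) (hex : ∃ a b d, Tri op a b d) :
    ∃ a b d, Tri op a b d ∧ op b (op a d) = op (op a b) d := by
  classical
  letI := Fintype.ofFinite S
  by_contra hno
  push Not at hno
  obtain ⟨a, b, d, hT⟩ := hex
  have htri : ∀ {u v : S}, u ≠ v → ∀ {x : S}, x ∉ ({u, v, op u v} : Finset S) → Tri op u v x :=
    fun {u v} huv {x} hx => by
      simp only [Finset.mem_insert, Finset.mem_singleton, not_or] at hx
      exact ⟨huv, hx.1, hx.2.1, hx.2.2⟩
  have hline : ∀ {u v : S}, u ≠ v → ({u, v, op u v} : Finset S).card = 3 := fun {u v} huv => by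
    have h1 := hS.ne u v huv
    have h2 : op u v ≠ v := by rw [hS.comm]; exact hS.ne v u huv.symm
    rw [Finset.card_insert_of_notMem (by simp [huv, h1.symm]), Finset.card_pair h2.symm]
  set n := Nat.card S with hn
  have hoff : ∀ {u v : S}, u ≠ v → ({u, v, op u v} : Finset S)ᶜ.card = n - 3 := fun huv => by
    rw [Finset.card_compl, hline huv, hn, Nat.card_eq_fintype_card]
  have hn3 : 0 < n - 3 := by
    rw [← hoff hT.1]
    exact Finset.card_pos.2 ⟨d, by simp [hT.2.1, hT.2.2.1, hT.2.2.2]⟩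
  -- the stabiliser of two points
  let K : S → S → Subgroup (Equiv.Perm S) := fun u v =>
    { carrier := {g | g ∈ A ∧ g u = u ∧ g v = v}
      one_mem' := ⟨A.one_mem, rfl, rfl⟩
      mul_mem' := fun {g g'} h h' => ⟨A.mul_mem h.1 h'.1,
        by rw [Equiv.Perm.mul_apply, h'.2.1, h.2.1], by rw [Equiv.Perm.mul_apply, h'.2.2, h.2.2]⟩
      inv_mem' := fun {g} h => ⟨A.inv_mem h.1,
        by rw [Equiv.Perm.inv_eq_iff_eq, h.2.1], by rw [Equiv.Perm.inv_eq_iff_eq, h.2.2]⟩ }
  have hKc : ∀ {u v : S}, u ≠ v → Nat.card (K u v) = n - 3 := by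
    intro u v huv
    obtain ⟨x, hx⟩ : (({u, v, op u v} : Finset S)ᶜ).Nonempty := Finset.card_pos.1 (by rw [hoff huv]; exact hn3)
    rw [Finset.mem_compl] at hx
    rw [← hoff huv, ← Nat.card_eq_finsetCard]
    refine Nat.card_congr (Equiv.ofBijective (fun g => ⟨(g : Equiv.Perm S) x, ?_⟩) ⟨?_, ?_⟩)
    · rw [Finset.mem_compl]
      intro h
      obtain ⟨g, hgA, hgu, hgv⟩ := g
      apply hx
      simp only [Finset.mem_insert, Finset.mem_singleton] at h ⊢
      rcases h with h | h | h
      · exact Or.inl (g.injective (h.trans hgu.symm))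
      · exact Or.inr (Or.inl (g.injective (h.trans hgv.symm)))
      · exact Or.inr (Or.inr (g.injective (by rw [haut g hgA, hgu, hgv]; exact h)))
    · rintro ⟨g, hg, hgu, hgv⟩ ⟨g', hg', hgu', hgv'⟩ h
      have h' : g x = g' x := congrArg Subtype.val h
      refine Subtype.ext ?_
      show g = g'
      rw [← inv_mul_eq_one]
      refine hsharp _ (A.mul_mem (A.inv_mem hg) hg') u v x (htri huv hx) ?_ ?_ ?_
      all_goals rw [Equiv.Perm.mul_apply, Equiv.Perm.inv_eq_iff_eq]
      · rw [hgu', hgu]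
      · rw [hgv', hgv]
      · rw [h']
    · rintro ⟨y, hy⟩
      rw [Finset.mem_compl] at hy
      obtain ⟨g, hg, h1, h2, h3⟩ := htrans u v x u v y (htri huv hx) (htri huv hy)
      exact ⟨⟨g, hg, h1, h2⟩, Subtype.ext h3⟩
  -- involutions fixing a line
  let I : Finset (Equiv.Perm S) := Finset.univ.filter fun t =>
    t ∈ A ∧ t * t = 1 ∧ t ≠ 1 ∧ ∃ u v, u ≠ v ∧ t u = u ∧ t v = v
  let fixer : S × S → Finset (Equiv.Perm S) := fun uv => I.filter fun t => t uv.1 = uv.1 ∧ t uv.2 = uv.2
  let swapper : S × S → Finset (Equiv.Perm S) := fun de => I.filter fun t => t de.1 = de.2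
  have hfix : ∀ t ∈ I, ∀ {u v : S}, u ≠ v → t u = u → t v = v → ∀ x, t x = x ↔ x ∈ ({u, v, op u v} : Finset S) := by
    intro t ht u v huv hu hv x
    have htA := (Finset.mem_filter.1 ht).2.1
    refine ⟨fun hx => ?_, fun hx => ?_⟩
    · by_contra h
      exact (Finset.mem_filter.1 ht).2.2.2.1 (hsharp t htA u v x (htri huv h) hu hv hx)
    · simp only [Finset.mem_insert, Finset.mem_singleton] at hx
      rcases hx with rfl | rfl | rfl
      · exact hu
      · exact hv
      · rw [haut t htA, hu, hv]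
  have hIconj : ∀ g ∈ A, ∀ t ∈ I, g * t * g⁻¹ ∈ I := by
    intro g hg t ht
    obtain ⟨-, htA, ht2, ht1, u, v, huv, hu, hv⟩ := Finset.mem_filter.1 ht
    refine Finset.mem_filter.2 ⟨Finset.mem_univ _, A.mul_mem (A.mul_mem hg htA) (A.inv_mem hg), ?_,
      fun e => ht1 (conj_eq_one_iff.1 e), g u, g v, fun e => huv (g.injective e), ?_, ?_⟩
    · calc g * t * g⁻¹ * (g * t * g⁻¹) = g * (t * t) * g⁻¹ := by group
        _ = 1 := by rw [ht2]; group
    · simp [hu]
    · simp [hv]
  have hpairs : ∀ {u v u' v' : S}, u ≠ v → u' ≠ v' → ∃ g ∈ A, g u = u' ∧ g v = v' := by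
    intro u v u' v' huv huv'
    obtain ⟨x, hx⟩ : (({u, v, op u v} : Finset S)ᶜ).Nonempty := Finset.card_pos.1 (by rw [hoff huv]; exact hn3)
    obtain ⟨y, hy⟩ : (({u', v', op u' v'} : Finset S)ᶜ).Nonempty := Finset.card_pos.1 (by rw [hoff huv']; exact hn3)
    obtain ⟨g, hg, h1, h2, -⟩ := htrans u v x u' v' y (htri huv (Finset.mem_compl.1 hx))
      (htri huv' (Finset.mem_compl.1 hy))
    exact ⟨g, hg, h1, h2⟩
  have hfle : ∀ {u v u' v' : S}, u ≠ v → u' ≠ v' →
      (fixer (u, v)).card ≤ (fixer (u', v')).card ∧ (swapper (u, v)).card ≤ (swapper (u', v')).card := by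
    intro u v u' v' huv huv'
    obtain ⟨g, hg, h1, h2⟩ := hpairs huv huv'
    have hinj : ∀ (T : Finset (Equiv.Perm S)), Set.InjOn (fun t => g * t * g⁻¹) (T : Set (Equiv.Perm S)) :=
      fun T x _ y _ e => by simpa using e
    constructor
    · refine Finset.card_le_card_of_injOn (fun t => g * t * g⁻¹) (fun t ht => ?_) (hinj _)
      obtain ⟨htI, hu, hv⟩ := Finset.mem_filter.1 ht
      refine Finset.mem_filter.2 ⟨hIconj g hg t htI, ?_, ?_⟩
      · simp [← h1, hu]
      · simp [← h2, hv]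
    · refine Finset.card_le_card_of_injOn (fun t => g * t * g⁻¹) (fun t ht => ?_) (hinj _)
      obtain ⟨htI, hu⟩ := Finset.mem_filter.1 ht
      refine Finset.mem_filter.2 ⟨hIconj g hg t htI, ?_⟩
      simp [← h1, ← h2, hu]
  set k := (fixer (a, b)).card with hk
  set j := (swapper (a, b)).card with hj
  have hcount1 : I.card * 6 = n * (n - 1) * k := by
    have e1 : ∀ uv ∈ (Finset.univ : Finset S).offDiag, (fixer uv).card = k := fun uv h => by
      have huv := (Finset.mem_offDiag.1 h).2.2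
      exact le_antisymm (hfle huv hT.1).1 (hfle hT.1 huv).1
    have e2 : ∀ t ∈ I, ((Finset.univ : Finset S).offDiag.filter fun uv => t uv.1 = uv.1 ∧ t uv.2 = uv.2).card = 6 := by
      intro t ht
      obtain ⟨-, -, -, -, u, v, huv, hu, hv⟩ := Finset.mem_filter.1 ht
      have : ((Finset.univ : Finset S).offDiag.filter fun uv => t uv.1 = uv.1 ∧ t uv.2 = uv.2) =
          ({u, v, op u v} : Finset S).offDiag := by
        ext ⟨x, y⟩
        simp only [Finset.mem_filter, Finset.mem_offDiag, Finset.mem_univ, true_and, hfix t ht huv hu hv]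
        tauto
      rw [this, Finset.offDiag_card, hline huv]
    have h : ∑ uv ∈ (Finset.univ : Finset S).offDiag, (fixer uv).card = ∑ t ∈ I,
        ((Finset.univ : Finset S).offDiag.filter fun uv => t uv.1 = uv.1 ∧ t uv.2 = uv.2).card :=
      Finset.sum_card_bipartiteAbove_eq_sum_card_bipartiteBelow
        (s := (Finset.univ : Finset S).offDiag) (t := I)
        (fun (uv : S × S) (t : Equiv.Perm S) => t uv.1 = uv.1 ∧ t uv.2 = uv.2)
    rw [Finset.sum_const_nat (m := k) (fun uv huv => e1 uv huv),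
      Finset.sum_const_nat (m := 6) (fun t ht => e2 t ht), Finset.offDiag_card, Finset.card_univ,
      ← Nat.card_eq_fintype_card, ← hn] at h
    rw [← h]
    congr 1
    rw [Nat.mul_sub_one]
  have hcount2 : I.card * (n - 3) = n * (n - 1) * j := by
    have e1 : ∀ de ∈ (Finset.univ : Finset S).offDiag, (swapper de).card = j := fun de h => by
      have hde := (Finset.mem_offDiag.1 h).2.2
      exact le_antisymm (hfle hde hT.1).2 (hfle hT.1 hde).2
    have e2 : ∀ t ∈ I, ((Finset.univ : Finset S).offDiag.filter fun de => t de.1 = de.2).card = n - 3 := by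
      intro t ht
      obtain ⟨-, -, -, -, u, v, huv, hu, hv⟩ := Finset.mem_filter.1 ht
      rw [← hoff huv]
      refine Finset.card_bij (fun de _ => de.1) (fun de hde => ?_) (fun de h de' h' e => ?_) (fun x hx => ?_)
      · obtain ⟨h1, h2⟩ := Finset.mem_filter.1 hde
        rw [Finset.mem_compl, ← hfix t ht huv hu hv]
        exact fun e => (Finset.mem_offDiag.1 h1).2.2 (e ▸ h2)
      · exact Prod.ext e (by rw [← (Finset.mem_filter.1 h).2, ← (Finset.mem_filter.1 h').2]; exact congrArg t e)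
      · rw [Finset.mem_compl, ← hfix t ht huv hu hv] at hx
        exact ⟨(x, t x), Finset.mem_filter.2 ⟨Finset.mem_offDiag.2 ⟨Finset.mem_univ _, Finset.mem_univ _,
          fun e => hx e.symm⟩, rfl⟩, rfl⟩
    have h : ∑ de ∈ (Finset.univ : Finset S).offDiag, (swapper de).card = ∑ t ∈ I,
        ((Finset.univ : Finset S).offDiag.filter fun de => t de.1 = de.2).card :=
      Finset.sum_card_bipartiteAbove_eq_sum_card_bipartiteBelow
        (s := (Finset.univ : Finset S).offDiag) (t := I) (fun (de : S × S) (t : Equiv.Perm S) => t de.1 = de.2)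
    rw [Finset.sum_const_nat (m := j) (fun de hde => e1 de hde),
      Finset.sum_const_nat (m := n - 3) (fun t ht => e2 t ht), Finset.offDiag_card, Finset.card_univ,
      ← Nat.card_eq_fintype_card, ← hn] at h
    rw [← h]
    congr 1
    rw [Nat.mul_sub_one]
  have h6 : k * (n - 3) = 6 * j := by
    refine Nat.eq_of_mul_eq_mul_left (show 0 < n * (n - 1) by
      have : 3 < n := by omega
      exact Nat.mul_pos (by omega) (by omega)) ?_
    rw [← mul_assoc, ← hcount1, mul_assoc, mul_comm 6, ← mul_assoc, hcount2]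
    ring
  have h3k : 3 ∣ k := by
    have : 3 ∣ k * (n - 3) := ⟨2 * j, by rw [h6]; ring⟩
    exact (Nat.prime_three.dvd_mul.1 this).resolve_right h3
  have hk1 : 0 < k := by
    haveI : Fact (Nat.Prime 2) := ⟨Nat.prime_two⟩
    obtain ⟨⟨t, htA, hta, htb⟩, ht⟩ := exists_prime_orderOf_dvd_card' (G := K a b) 2 (by
      rw [hKc hT.1]
      have := Nat.odd_iff.1 (odd_card hS a)
      omega)
    replace ht : orderOf t = 2 := (Subgroup.orderOf_coe _).trans ht
    refine Finset.card_pos.2 ⟨t, Finset.mem_filter.2 ⟨Finset.mem_filter.2 ⟨Finset.mem_univ _, htA, ?_, ?_,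
      a, b, hT.1, hta, htb⟩, hta, htb⟩⟩
    · rw [← pow_two, ← ht, pow_orderOf_eq_one]
    · intro e; rw [e, orderOf_one] at ht; omega
  let lab : Equiv.Perm S → S → S := fun t x => op x (t x)
  have hlab : ∀ t ∈ fixer (a, b), ∀ x, x ∉ ({a, b, op a b} : Finset S) → lab t x ∈ ({a, b, op a b} : Finset S) := by
    intro t ht x hx
    obtain ⟨htI, hta, htb⟩ := Finset.mem_filter.1 ht
    obtain ⟨-, htA, ht2, -⟩ := Finset.mem_filter.1 htI
    rw [← hfix t htI hT.1 hta htb]
    show t (op x (t x)) = op x (t x)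
    rw [haut t htA, ← Equiv.Perm.mul_apply, ht2, Equiv.Perm.one_apply, hS.comm]
  have hd : d ∉ ({a, b, op a b} : Finset S) := by simp [hT.2.1, hT.2.2.1, hT.2.2.2]
  have hlabinj : Set.InjOn (fun t => lab t d) (fixer (a, b) : Set (Equiv.Perm S)) := by
    intro t ht t' ht' e
    have e' : t d = t' d := left_inj hS e
    obtain ⟨htI, hta, htb⟩ := Finset.mem_filter.1 ht
    obtain ⟨htI', hta', htb'⟩ := Finset.mem_filter.1 ht'
    rw [← inv_mul_eq_one]
    refine hsharp _ (A.mul_mem (A.inv_mem (Finset.mem_filter.1 htI).2.1) (Finset.mem_filter.1 htI').2.1)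
      a b d hT ?_ ?_ ?_
    all_goals rw [Equiv.Perm.mul_apply, Equiv.Perm.inv_eq_iff_eq]
    · rw [hta', hta]
    · rw [htb', htb]
    · rw [e']
  have hk3 : k = 3 := by
    have := Finset.card_le_card_of_injOn (fun t => lab t d) (fun t ht => hlab t ht d hd) hlabinj
    rw [hline hT.1] at this
    obtain ⟨m, hm⟩ := h3k
    omega
  obtain ⟨t₁, t₂, t₃, h12, h13, h23, hF⟩ := Finset.card_eq_three.1 (hk ▸ hk3)
  have hmemF : ∀ t, t ∈ fixer (a, b) → t = t₁ ∨ t = t₂ ∨ t = t₃ := fun t ht => by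
    rw [hF] at ht; simpa using ht
  have hprops : ∀ t ∈ fixer (a, b), t ∈ A ∧ t * t = 1 ∧ t ≠ 1 ∧ t a = a ∧ t b = b := fun t ht => by
    obtain ⟨htI, hta, htb⟩ := Finset.mem_filter.1 ht
    obtain ⟨-, h1, h2, h3, -⟩ := Finset.mem_filter.1 htI
    exact ⟨h1, h2, h3, hta, htb⟩
  have hconjF : ∀ s ∈ fixer (a, b), ∀ t ∈ fixer (a, b), s * t * s ∈ fixer (a, b) := by
    intro s hs t ht
    obtain ⟨hsA, hs2, -, hsa, hsb⟩ := hprops s hs
    obtain ⟨htI, hta, htb⟩ := Finset.mem_filter.1 ht
    refine Finset.mem_filter.2 ⟨?_, by simp [hsa, hta], by simp [hsb, htb]⟩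
    have := hIconj s hsA t htI
    rwa [inv_eq_of_mul_eq_one_right hs2] at this
  -- two of them commute
  obtain ⟨s, hs, t, ht, hst, hcomm⟩ : ∃ s ∈ fixer (a, b), ∃ t ∈ fixer (a, b), s ≠ t ∧ s * t = t * s := by
    by_contra hnc
    push Not at hnc
    have m1 : t₁ ∈ fixer (a, b) := by rw [hF]; simp
    have m2 : t₂ ∈ fixer (a, b) := by rw [hF]; simp
    obtain ⟨hA1, q1, -, ha1, hb1⟩ := hprops t₁ m1
    obtain ⟨hA2, q2, -, ha2, hb2⟩ := hprops t₂ m2
    have e1 : t₁ * t₂ * t₁ = t₃ := by
      rcases hmemF _ (hconjF _ m1 _ m2) with e | e | e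
      · refine absurd ?_ h12
        calc t₁ = t₁ * t₁ * t₁ := by rw [q1, one_mul]
          _ = t₁ * (t₁ * t₂ * t₁) * t₁ := by rw [e]
          _ = (t₁ * t₁) * t₂ * (t₁ * t₁) := by group
          _ = t₂ := by rw [q1, one_mul, mul_one]
      · refine absurd ?_ (hnc _ m1 _ m2 h12)
        calc t₁ * t₂ = t₁ * t₂ * (t₁ * t₁) := by rw [q1, mul_one]
          _ = t₁ * t₂ * t₁ * t₁ := by group
          _ = t₂ * t₁ := by rw [e]
      · exact e
    have e2 : t₂ * t₁ * t₂ = t₃ := by
      rcases hmemF _ (hconjF _ m2 _ m1) with e | e | e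
      · refine absurd ?_ (hnc _ m2 _ m1 h12.symm)
        calc t₂ * t₁ = t₂ * t₁ * (t₂ * t₂) := by rw [q2, mul_one]
          _ = t₂ * t₁ * t₂ * t₂ := by group
          _ = t₁ * t₂ := by rw [e]
      · refine absurd ?_ h12.symm
        calc t₂ = t₂ * t₂ * t₂ := by rw [q2, one_mul]
          _ = t₂ * (t₂ * t₁ * t₂) * t₂ := by rw [e]
          _ = (t₂ * t₂) * t₁ * (t₂ * t₂) := by group
          _ = t₁ := by rw [q2, one_mul, mul_one]
      · exact e
    have hpow : (t₁ * t₂) ^ 3 = 1 := by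
      calc (t₁ * t₂) ^ 3 = (t₁ * t₂ * t₁) * (t₂ * t₁ * t₂) := by rw [pow_succ, pow_two]; group
        _ = (t₁ * t₂ * t₁) * (t₁ * t₂ * t₁) := by rw [e2, e1]
        _ = t₁ * t₂ * (t₁ * t₁) * t₂ * t₁ := by group
        _ = t₁ * (t₂ * t₂) * t₁ := by rw [q1, mul_one]; group
        _ = 1 := by rw [q2, mul_one, q1]
    have hne : t₁ * t₂ ≠ 1 := fun e => h12 (by
      rw [eq_inv_of_mul_eq_one_left e, inv_eq_of_mul_eq_one_right q2])
    haveI : Fact (Nat.Prime 3) := ⟨Nat.prime_three⟩
    have hm : t₁ * t₂ ∈ K a b := (K a b).mul_mem ⟨hA1, ha1, hb1⟩ ⟨hA2, ha2, hb2⟩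
    have ho : orderOf (⟨_, hm⟩ : K a b) = 3 := by
      exact (Subgroup.orderOf_coe _).symm.trans (orderOf_eq_prime hpow hne)
    exact h3 (hKc hT.1 ▸ ho ▸ orderOf_dvd_natCard _)
  obtain ⟨hsA, hs2, -, hsa, hsb⟩ := hprops s hs
  obtain ⟨htA, ht2, ht1, hta, htb⟩ := hprops t ht
  have hp : t * s ∈ fixer (a, b) := by
    refine Finset.mem_filter.2 ⟨Finset.mem_filter.2 ⟨Finset.mem_univ _, A.mul_mem htA hsA, ?_, ?_, a, b, hT.1,
      by simp [hta, hsa], by simp [htb, hsb]⟩, by simp [hta, hsa], by simp [htb, hsb]⟩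
    · calc t * s * (t * s) = t * (s * t) * s := by group
        _ = (t * t) * (s * s) := by rw [hcomm]; group
        _ = 1 := by rw [ht2, hs2, one_mul]
    · intro e
      exact hst (by rw [eq_inv_of_mul_eq_one_left e, inv_eq_of_mul_eq_one_right hs2])
  set x := lab s d with hx
  set y := lab t d with hy
  set z := lab (t * s) d with hz
  have hxyz : x ≠ y ∧ x ≠ z ∧ y ≠ z := by
    have ht1' : ∀ {u v}, u ∈ fixer (a, b) → v ∈ fixer (a, b) → lab u d = lab v d → u = v :=
      fun hu hv e => hlabinj hu hv e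
    refine ⟨fun e => hst (ht1' hs ht e), fun e => ?_, fun e => ?_⟩
    · exact ht1 (mul_eq_right.1 (ht1' hs hp e).symm)
    · exact (hprops s hs).2.2.1 (mul_eq_left.1 (ht1' ht hp e).symm)
  have hL : ({a, b, op a b} : Finset S) = {x, y, z} := by
    refine (Finset.eq_of_subset_of_card_le ?_ ?_).symm
    · intro u hu
      simp only [Finset.mem_insert, Finset.mem_singleton] at hu
      rcases hu with rfl | rfl | rfl
      · exact hlab s hs d hd
      · exact hlab t ht d hd
      · exact hlab _ hp d hd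
    · rw [hline hT.1, Finset.card_insert_of_notMem (by simp [hxyz.1, hxyz.2.1]),
        Finset.card_pair hxyz.2.2]
  have hsd : s d = op d x := by rw [hx]; exact (hS.cancel d (s d)).symm
  have htsd : t (s d) = op d z := by
    rw [hz]; exact (hS.cancel d ((t * s) d)).symm
  have hd' : s d ∉ ({a, b, op a b} : Finset S) := by
    rw [← hfix s (Finset.mem_filter.1 hs).1 hT.1 hsa hsb, ← Equiv.Perm.mul_apply, hs2, Equiv.Perm.one_apply]
    intro e
    exact hd ((hfix s (Finset.mem_filter.1 hs).1 hT.1 hsa hsb d).1 e.symm)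
  have hy' := hlab t ht (s d) hd'
  have hdne : ∀ u ∈ ({x, y, z} : Finset S), u ≠ d := fun u hu e => hd (by rw [hL, ← e]; exact hu)
  have key : lab t (s d) = y := by
    have hl : op (s d) (lab t (s d)) = t (s d) := hS.cancel _ _
    rw [hL] at hy'
    simp only [Finset.mem_insert, Finset.mem_singleton] at hy'
    rcases hy' with e | e | e
    · rw [e, htsd, hsd, hS.comm, hS.comm d x, hS.cancel] at hl
      exact absurd hl.symm (hS.ne d z (hdne z (by simp)).symm)
    · exact e
    · rw [e, htsd, hS.comm d z, hS.comm (s d)] at hl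
      have := left_inj hS hl
      rw [hsd] at this
      exact absurd this (hS.ne d x (hdne x (by simp)).symm)
  have hzxy : op x y = z := by
    have hxy : op x y ∈ ({a, b, op a b} : Finset S) := by
      rw [← hfix t (Finset.mem_filter.1 ht).1 hT.1 hta htb, haut t htA]
      rw [(hfix t (Finset.mem_filter.1 ht).1 hT.1 hta htb x).2 (hlab s hs d hd),
        (hfix t (Finset.mem_filter.1 ht).1 hT.1 hta htb y).2 (hlab t ht d hd)]
    rw [hL] at hxy
    simp only [Finset.mem_insert, Finset.mem_singleton] at hxy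
    rcases hxy with e | e | e
    · exact absurd e (hS.ne x y hxyz.1)
    · exact absurd (by rw [hS.comm]; exact e) (hS.ne y x hxyz.1.symm)
    · exact e
  refine hno x y d ⟨hxyz.1, (hdne x (by simp)).symm, (hdne y (by simp)).symm,
    by rw [hzxy]; exact (hdne z (by simp)).symm⟩ ?_
  rw [hzxy, hS.comm x d, ← hsd, hS.comm z d, ← htsd, ← key, hS.comm, hS.cancel]

end CfsgLib.PGroup.TwinPrime.Triples
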